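import Groth.Agent.Lib.Wronsk.Genus0
import Mathlib.Algebra.BigOperators.Intervals
import Mathlib.Data.Nat.Choose.Sum
import Mathlib.LinearAlgebra.Dimension.StrongRankCondition

/-!
# Vanishing orders and weights of the systems on the punctured line
-/

noncomputable section

namespace Groth.Agent.Lib.Wronsk

open Polynomial Finset

variable {k : Type*} [Field k] [CharZero k] {m : ℕ} (r : Fin m → k) (a : Fin m → ℕ) (b : ℕ)

lemma finrank_LT (n : ℕ) : Module.finrank k (degreeLT k n) = n := by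
  rw [(degreeLTEquiv k n).finrank_eq, Module.finrank_pi, Fintype.card_fin]

instance finite_LT (n : ℕ) : Module.Finite k (degreeLT k n) :=
  Module.Finite.equiv (degreeLTEquiv k n).symm

lemma finite_of_le {T : Submodule k k[X]} {n : ℕ} (hT : T ≤ degreeLT k n) : Module.Finite k T :=
  Module.Finite.of_injective (Submodule.inclusion hT) (Submodule.inclusion_injective hT)

/-- Multiples of a monic polynomial of bounded degree. -/
lemma finrank_LT_inf {g : k[X]} (hg : g.Monic) {n : ℕ} (hn : g.natDegree = n) (K : ℕ) :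
    Module.finrank k ↥(degreeLT k K ⊓ (Ideal.span {g}).restrictScalars k) = K - n := by
  have : degreeLT k K ⊓ (Ideal.span {g}).restrictScalars k = (degreeLT k (K - n)).map (LinearMap.mulLeft k g) := by
    ext P
    constructor
    · rintro ⟨hP, hPg⟩
      obtain ⟨F, rfl⟩ := Ideal.mem_span_singleton.1 hPg
      refine ⟨F, ?_, rfl⟩
      rw [SetLike.mem_coe, mem_degreeLT] at hP ⊢
      rcases eq_or_ne F 0 with rfl | hF
      · simpa using WithBot.bot_lt_coe _
      rw [← natDegree_lt_iff_degree_lt (mul_ne_zero hg.ne_zero hF), hg.natDegree_mul' hF, hn] at hP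
      rw [← natDegree_lt_iff_degree_lt hF]
      omega
    · rintro ⟨F, hF, rfl⟩
      refine ⟨?_, Ideal.mem_span_singleton.2 ⟨F, rfl⟩⟩
      rcases le_or_gt n K with h | h
      · exact mul_mem_LT hn.le hF (by omega)
      · have : F = 0 := Polynomial.ext fun l => by rw [mem_LT_iff.1 hF l (by omega), coeff_zero]
        simp [this]
  rw [this, ← ((degreeLT k (K - n)).equivMapOfInjective _ (fun F G h => mul_left_cancel₀ hg.ne_zero h)).finrank_eq,
    finrank_LT]

lemma finrank_hyperplane {T : Submodule k k[X]} [Module.Finite k T] (φ : k[X] →ₗ[k] k)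
    (h : ¬T ≤ LinearMap.ker φ) :
    Module.finrank k ↥(T ⊓ LinearMap.ker φ) + 1 = Module.finrank k T := by
  obtain ⟨x, hx, hφx⟩ := SetLike.not_le_iff_exists.1 h
  have hs : LinearMap.range (φ.domRestrict T) = ⊤ := by
    refine LinearMap.range_eq_top.2 fun c => ⟨(c / φ x) • ⟨x, hx⟩, ?_⟩
    simp only [map_smul, LinearMap.domRestrict_apply, smul_eq_mul]
    exact div_mul_cancel₀ _ hφx
  have h1 := (φ.domRestrict T).finrank_range_add_finrank_ker
  rw [hs, finrank_top, Module.finrank_self] at h1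
  have h2 : Module.finrank k ↥(T ⊓ LinearMap.ker φ) = Module.finrank k ↥(LinearMap.ker (φ.domRestrict T)) := by
    rw [LinearMap.ker_domRestrict]
    exact ((Submodule.equivMapOfInjective T.subtype T.injective_subtype _).trans
      (LinearEquiv.ofEq _ _ (by rw [Submodule.map_comap_subtype]))).finrank_eq.symm
  omega

lemma finrank_map_LL {T : Submodule k k[X]} [Module.Finite k T] [Decidable (EE r a ∈ T)] :
    Module.finrank k ↥(T.map (LL r a)) + (if EE r a ∈ T then 1 else 0) = Module.finrank k T := by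
  have h1 := ((LL r a).domRestrict T).finrank_range_add_finrank_ker
  rw [LinearMap.range_domRestrict] at h1
  rw [← h1]
  congr 1
  split
  · next h =>
    refine (finrank_eq_one (⟨⟨EE r a, h⟩, LL_EE r a⟩ : LinearMap.ker ((LL r a).domRestrict T))
      (fun h0 => (EE_monic r a).ne_zero (congrArg (fun z => z.1.1) h0)) fun z => ?_).symm
    obtain ⟨c, hc⟩ := ker_LL r a (P := z.1.1) z.2
    exact ⟨c, Subtype.ext (Subtype.ext (by simp [hc, smul_eq_C_mul]))⟩
  · next h =>
    suffices LinearMap.ker ((LL r a).domRestrict T) = ⊥ by rw [this, finrank_bot]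
    refine eq_bot_iff.2 fun z hz => (Submodule.mem_bot _).2 ?_
    obtain ⟨c, hc⟩ := ker_LL r a (P := z.1) hz
    by_cases hc0 : c = 0
    · exact Subtype.ext (by simp [hc, hc0])
    · refine absurd ?_ h
      have := T.smul_mem c⁻¹ z.2
      rwa [hc, smul_eq_C_mul, ← mul_assoc, ← map_mul, inv_mul_cancel₀ hc0, map_one, one_mul] at this

/-- Primitives of the members vanishing to order `n` at a puncture. -/
abbrev SR (i : Fin m) (n : ℕ) : Submodule k k[X] :=
  Prim a b ⊓ (Ideal.span {(X - C (r i)) ^ n}).restrictScalars k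

/-- Primitives of the members vanishing to order `n` at an unmarked point. -/
abbrev SQ (q : k) (n : ℕ) : Submodule k k[X] :=
  Prim a b ⊓ (Ideal.span {(X - C q) ^ (n + 1)}).restrictScalars k

/-- Primitives of the members vanishing to order `n` at infinity. -/
abbrev SI (n : ℕ) : Submodule k k[X] := degreeLT k ((∑ l, a l) + b + 1 - n)

lemma sub_mem_Prim {P : k[X]} (hP : P ∈ Prim (k := k) a b) (c : k) :
    P - C c * EE r a ∈ Prim (k := k) a b := by
  rw [← smul_eq_C_mul]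
  exact Submodule.sub_mem _ hP (Submodule.smul_mem _ _ (EE_mem r a b))

lemma SI_le (n : ℕ) : SI (k := k) a b n ≤ Prim a b := degreeLT_mono (by omega)

theorem SYS_root (hr : Function.Injective r) (i : Fin m) (n : ℕ) :
    SYS r a b ⊓ (Ideal.span {(X - C (r i)) ^ n}).restrictScalars k = (SR r a b i n).map (LL r a) := by
  rw [SYS_eq r a b hr]
  ext h
  constructor
  · rintro ⟨⟨P, hP, rfl⟩, hd⟩
    obtain ⟨c, hc⟩ := (dvd_LL_root r a hr i n P).1 (Ideal.mem_span_singleton.1 hd)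
    exact ⟨_, ⟨sub_mem_Prim r a b hP c, Ideal.mem_span_singleton.2 hc⟩, LL_sub r a P c⟩
  · rintro ⟨P, ⟨hP, hd⟩, rfl⟩
    exact ⟨⟨P, hP, rfl⟩, Ideal.mem_span_singleton.2 ((dvd_LL_root r a hr i n P).2
      ⟨0, by simpa using Ideal.mem_span_singleton.1 hd⟩)⟩

theorem SYS_other (hr : Function.Injective r) {q : k} (hq : ∀ j, q ≠ r j) (n : ℕ) :
    SYS r a b ⊓ (Ideal.span {(X - C q) ^ n}).restrictScalars k = (SQ a b q n).map (LL r a) := by
  rw [SYS_eq r a b hr]
  ext h
  constructor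
  · rintro ⟨⟨P, hP, rfl⟩, hd⟩
    obtain ⟨c, hc⟩ := (dvd_LL_other r a hq n P).1 (Ideal.mem_span_singleton.1 hd)
    exact ⟨_, ⟨sub_mem_Prim r a b hP c, Ideal.mem_span_singleton.2 hc⟩, LL_sub r a P c⟩
  · rintro ⟨P, ⟨hP, hd⟩, rfl⟩
    exact ⟨⟨P, hP, rfl⟩, Ideal.mem_span_singleton.2 ((dvd_LL_other r a hq n P).2
      ⟨0, by simpa using Ideal.mem_span_singleton.1 hd⟩)⟩

theorem SYS_infty (hr : Function.Injective r) (n : ℕ) :
    SYS r a b ⊓ degreeLT k ((∑ l, a l) + b + m - n) = (SI a b n).map (LL r a) := by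
  rw [SYS_eq r a b hr]
  ext h
  constructor
  · rintro ⟨⟨P, hP, rfl⟩, hd⟩
    obtain ⟨c, hc⟩ := (LL_mem_LT r a b n hP).1 hd
    exact ⟨_, hc, LL_sub r a P c⟩
  · rintro ⟨P, hP, rfl⟩
    exact ⟨⟨P, SI_le a b n hP, rfl⟩, (LL_mem_LT r a b n (SI_le a b n hP)).2 ⟨0, by simpa using hP⟩⟩

lemma finrank_SR (i : Fin m) (n : ℕ) :
    Module.finrank k ↥(SR r a b i n) = (∑ l, a l) + b + 1 - n :=
  finrank_LT_inf ((monic_X_sub_C _).pow n) (by simp) _

lemma finrank_SQ (q : k) (n : ℕ) : Module.finrank k ↥(SQ a b q n) = (∑ l, a l) + b + 1 - (n + 1) :=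
  finrank_LT_inf ((monic_X_sub_C _).pow _) (by simp) _

lemma EE_mem_SR_iff (hr : Function.Injective r) (i : Fin m) (n : ℕ) : EE r a ∈ SR r a b i n ↔ n ≤ a i := by
  refine ⟨fun ⟨_, h⟩ => ?_, fun h => ⟨EE_mem r a b, Ideal.mem_span_singleton.2 ((pow_dvd_pow _ h).trans ⟨_, EE_eq r a i⟩)⟩⟩
  by_contra hlt
  have h' := (pow_dvd_pow (X - C (r i)) (show a i + 1 ≤ n by omega)).trans (Ideal.mem_span_singleton.1 h)
  rw [EE_eq r a i, pow_succ, mul_dvd_mul_iff_left (pow_ne_zero _ (X_sub_C_ne_zero _)), dvd_iff_isRoot, IsRoot, EI,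
    eval_prod, prod_eq_zero_iff] at h'
  obtain ⟨l, hl, h0⟩ := h'
  rw [eval_pow] at h0
  have h1 := (pow_eq_zero_iff'.1 h0).1
  rw [eval_sub, eval_X, eval_C, sub_eq_zero] at h1
  exact (mem_erase.1 hl).1 (hr h1).symm

lemma EE_mem_SI_iff (n : ℕ) : EE r a ∈ SI a b n ↔ n ≤ b := by
  refine ⟨fun h => ?_, fun h => EE_mem_LT r a (by omega)⟩
  have := (natDegree_lt_iff_degree_lt (EE_monic r a).ne_zero).2 (mem_degreeLT.1 h)
  rw [EE_natDegree] at this
  omega

theorem finrank_SYS (hr : Function.Injective r) : Module.finrank k ↥(SYS r a b) = (∑ l, a l) + b := by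
  classical
  have h := finrank_map_LL r a (T := Prim a b)
  rw [if_pos (EE_mem r a b), ← SYS_eq r a b hr, finrank_LT] at h
  omega

theorem finrank_SYS_root (hr : Function.Injective r) (i : Fin m) (n : ℕ) :
    Module.finrank k ↥(SYS r a b ⊓ (Ideal.span {(X - C (r i)) ^ n}).restrictScalars k) =
      if n ≤ a i then (∑ l, a l) + b - n else (∑ l, a l) + b + 1 - n := by
  classical
  have : Module.Finite k (SR r a b i n) := finite_of_le inf_le_left
  have h := finrank_map_LL r a (T := SR r a b i n)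
  rw [← SYS_root r a b hr i n, finrank_SR] at h
  simp only [EE_mem_SR_iff r a b hr] at h
  have hle := single_le_sum (f := a) (fun j _ => Nat.zero_le _) (mem_univ i)
  split at h <;> split <;> omega

theorem finrank_SYS_infty (hr : Function.Injective r) (n : ℕ) :
    Module.finrank k ↥(SYS r a b ⊓ degreeLT k ((∑ l, a l) + b + m - n)) =
      if n ≤ b then (∑ l, a l) + b - n else (∑ l, a l) + b + 1 - n := by
  classical
  have h := finrank_map_LL r a (T := SI a b n)
  rw [← SYS_infty r a b hr n, finrank_LT] at h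
  simp only [EE_mem_SI_iff r a b] at h
  split at h <;> split <;> omega

/-- A hyperplane of the system cut out by a linear form on primitives. -/
structure IsHyp (V₁ : Submodule k k[X]) (φ : k[X] →ₗ[k] k) : Prop where
  eq : V₁ = (Prim a b ⊓ LinearMap.ker φ).map (LL r a)
  kills : φ (EE r a) = 0
  nz : ¬Prim a b ≤ LinearMap.ker φ

variable {r a b} {V₁ : Submodule k k[X]} {φ : k[X] →ₗ[k] k}

lemma IsHyp.le (h : IsHyp r a b V₁ φ) (hr : Function.Injective r) : V₁ ≤ SYS r a b := by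
  rw [h.eq, SYS_eq r a b hr]; exact Submodule.map_mono inf_le_left

lemma IsHyp.inf_map (h : IsHyp r a b V₁ φ) {T : Submodule k k[X]} (hT : T ≤ Prim a b) :
    V₁ ⊓ T.map (LL r a) = (T ⊓ LinearMap.ker φ).map (LL r a) := by
  rw [h.eq]
  ext x
  constructor
  · rintro ⟨⟨P, ⟨-, hP⟩, rfl⟩, Q, hQ, hQP⟩
    obtain ⟨c, hc⟩ := ker_LL r a (P := Q - P) (by rw [map_sub, hQP, sub_self])
    refine ⟨Q, ⟨hQ, ?_⟩, hQP⟩
    change φ Q = 0
    rw [sub_eq_iff_eq_add.1 hc, map_add, ← smul_eq_C_mul, map_smul, h.kills, smul_zero, zero_add]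
    exact hP
  · rintro ⟨P, ⟨hP, hφ⟩, rfl⟩
    exact ⟨⟨P, ⟨hT hP, hφ⟩, rfl⟩, P, hP, rfl⟩

lemma IsHyp.finrank_inf (h : IsHyp r a b V₁ φ) {T : Submodule k k[X]} (hT : T ≤ Prim a b)
    [Decidable (T ≤ LinearMap.ker φ)] :
    Module.finrank k ↥(V₁ ⊓ T.map (LL r a)) + (if T ≤ LinearMap.ker φ then 0 else 1) =
      Module.finrank k ↥(T.map (LL r a)) := by
  classical
  rw [h.inf_map hT]
  have := finite_of_le hT
  by_cases hle : T ≤ LinearMap.ker φ
  · rw [if_pos hle, inf_eq_left.2 hle, add_zero]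
  rw [if_neg hle]
  have : Module.Finite k ↥(T ⊓ LinearMap.ker φ) := finite_of_le (inf_le_left.trans hT)
  have h1 := finrank_map_LL r a (T := T)
  have h2 := finrank_map_LL r a (T := T ⊓ LinearMap.ker φ)
  have h3 := finrank_hyperplane φ hle
  have hE : EE r a ∈ T ⊓ LinearMap.ker φ ↔ EE r a ∈ T := ⟨fun x => x.1, fun x => ⟨x, h.kills⟩⟩
  simp only [hE] at h2
  omega

lemma IsHyp.finrank (h : IsHyp r a b V₁ φ) (hr : Function.Injective r) :
    Module.finrank k ↥V₁ + 1 = (∑ l, a l) + b := by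
  classical
  have h1 := h.finrank_inf (T := Prim a b) le_rfl
  rwa [if_neg h.nz, ← SYS_eq r a b hr, inf_eq_left.2 (h.le hr), finrank_SYS r a b hr] at h1

/-- The unmarked ramification of a hyperplane. -/
theorem IsHyp.other (h : IsHyp r a b V₁ φ) (hr : Function.Injective r) (hb : 1 ≤ b) {q : k}
    (hq : ∀ j, q ≠ r j) :
    (V₁ ⊓ (Ideal.span {(X - C q) ^ ((∑ l, a l) + b)}).restrictScalars k = ⊥) ∧
    (¬(φ ((X - C q) ^ ((∑ l, a l) + b)) = 0 ∧ φ ((X - C q) ^ ((∑ l, a l) + b - 1)) = 0) →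
      Module.finrank k ↥(V₁ ⊓ (Ideal.span {(X - C q) ^ ((∑ l, a l) + b - 2)}).restrictScalars k) ≤ 1) ∧
    (V₁ ⊓ (Ideal.span {(X - C q) ^ ((∑ l, a l) + b - 1)}).restrictScalars k ≠ ⊥ →
      φ ((X - C q) ^ ((∑ l, a l) + b)) = 0) := by
  classical
  set N := (∑ l, a l) + b with hN
  have conv : ∀ n, V₁ ⊓ (Ideal.span {(X - C q) ^ n}).restrictScalars k = V₁ ⊓ (SQ a b q n).map (LL r a) := by
    intro n
    rw [← SYS_other r a b hr hq, ← inf_assoc, inf_eq_left.2 (h.le hr)]
  refine ⟨?_, fun hφ => ?_, fun hne => ?_⟩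
  · rw [conv]
    have : SQ a b q N = ⊥ := Submodule.finrank_eq_zero.1 (by
      rw [finrank_SQ]; omega)
    rw [this, Submodule.map_bot, inf_bot_eq]
  · have hmem : ∀ e, e ≤ N → N - 1 ≤ e → N - 2 + 1 ≤ e → (X - C q) ^ e ∈ SQ a b q (N - 2) := fun e h1 _ h3 =>
      ⟨mem_degreeLT.2 (by
        rw [degree_pow, degree_X_sub_C, nsmul_one]
        exact_mod_cast Nat.lt_succ_of_le (hN ▸ h1)), Ideal.mem_span_singleton.2 (pow_dvd_pow _ h3)⟩
    rcases Nat.lt_or_ge N 2 with hN2 | hN2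
    · have h1 := h.finrank hr
      have : Module.Finite k ↥V₁ := by
        rw [h.eq]
        have : Module.Finite k ↥(Prim a b ⊓ LinearMap.ker φ) := finite_of_le inf_le_left
        infer_instance
      have := Submodule.finrank_mono (inf_le_left : V₁ ⊓ (Ideal.span {(X - C q) ^ (N - 2)}).restrictScalars k ≤ V₁)
      omega
    rw [conv, h.inf_map inf_le_left]
    have hle : ¬SQ a b q (N - 2) ≤ LinearMap.ker φ := fun hle =>
      hφ ⟨hle (hmem N le_rfl (by omega) (by omega)), hle (hmem (N - 1) (by omega) le_rfl (by omega))⟩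
    have : Module.Finite k ↥(SQ a b q (N - 2)) := finite_of_le inf_le_left
    have : Module.Finite k ↥(SQ a b q (N - 2) ⊓ LinearMap.ker φ) := finite_of_le (inf_le_left.trans inf_le_left)
    have h2 := finrank_map_LL r a (T := SQ a b q (N - 2) ⊓ LinearMap.ker φ)
    have h3 := finrank_hyperplane φ hle
    rw [finrank_SQ] at h3
    simp only [SQ, Prim] at h2 h3 ⊢
    omega
  · rw [conv, h.inf_map inf_le_left] at hne
    obtain ⟨x, hx, hx0⟩ := Submodule.exists_mem_ne_zero_of_ne_bot hne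
    obtain ⟨P, ⟨⟨hP, hd⟩, hφ⟩, rfl⟩ := hx
    obtain ⟨F, rfl⟩ := Ideal.mem_span_singleton.1 hd
    rw [show N - 1 + 1 = N by omega] at hP hφ hx0
    have hF : F ≠ 0 := fun hF => hx0 (by rw [hF, mul_zero, map_zero])
    have hdeg := (natDegree_lt_iff_degree_lt (mul_ne_zero (pow_ne_zero _ (X_sub_C_ne_zero q)) hF)).2 (mem_degreeLT.1 hP)
    rw [((monic_X_sub_C q).pow N).natDegree_mul' hF, natDegree_pow, natDegree_X_sub_C, mul_one] at hdeg
    obtain ⟨c, rfl⟩ := natDegree_eq_zero.1 (show F.natDegree = 0 by omega)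
    have hc : c ≠ 0 := fun h => hF (by rw [h, map_zero])
    change φ _ = 0 at hφ
    rw [mul_comm, ← smul_eq_C_mul, map_smul, smul_eq_mul, mul_eq_zero, or_iff_right hc] at hφ
    exact hφ

lemma sum_dims (N e d : ℕ) (he : e ≤ N) (hd : N ≤ d ∨ (d + 1 = N ∧ e = N)) :
    (∑ n ∈ range d, if n + 1 ≤ e then N - (n + 1) else N + 1 - (n + 1)) + e = (N + 1).choose 2 := by
  set f : ℕ → ℕ := fun n => if n + 1 ≤ e then N - (n + 1) else N + 1 - (n + 1)
  have hbig : ∀ n, N ≤ n → f n = 0 := fun n hn => by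
    simp only [f]; rw [if_neg (by omega)]; omega
  have hsum : ∑ n ∈ range d, f n = ∑ n ∈ range N, f n := by
    rcases hd with hd | ⟨hd, rfl⟩
    · exact (sum_subset (range_subset_range.2 hd) fun n _ hn => hbig n (by simpa using hn)).symm
    · subst hd
      rw [sum_range_succ]
      simp [f]
  rw [hsum]
  have hsplit : ∀ n ∈ range N, f n + (if n < e then 1 else 0) = N - n := fun n hn => by
    rw [mem_range] at hn
    simp only [f]
    split_ifs <;> omega
  have he' : ∑ n ∈ range N, (if n < e then 1 else 0) = e := by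
    rw [sum_boole, Nat.cast_id]
    rw [show (range N).filter (fun n => n < e) = range e by ext n; simp; omega, card_range]
  calc (∑ n ∈ range N, f n) + e = ∑ n ∈ range N, (N - n) := by
        rw [← sum_congr rfl hsplit, sum_add_distrib, he']
    _ = (N + 1).choose 2 := by
        have : ∀ M : ℕ, ∑ n ∈ range M, (M - n) = (M + 1).choose 2 := by
          intro M
          induction M with
          | zero => simp
          | succ M ih =>
            rw [sum_range_succ', Nat.choose_succ_succ, Nat.choose_one_right]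
            simp only [Nat.succ_sub_succ, ih, Nat.sub_zero]
            rw [add_comm]
        exact this N

/-- Weights at a marked point: vanishing at order `N - 1` is not automatic. -/
theorem weight_high (N e d : ℕ) (he1 : 1 ≤ e) (he : e ≤ N) (hd : N ≤ d ∨ (d + 1 = N ∧ e = N))
    (δ f : ℕ → ℕ) (hδ : ∀ n, δ n = if n + 1 ≤ e then N - (n + 1) else N + 1 - (n + 1))
    (hf : ∀ n, ∃ j, j ≤ 1 ∧ f n + j = δ n ∧ (n + 1 ≤ N - 1 → j = 1)) :
    ∃ ε : ℕ, ε ≤ 1 ∧ (∑ n ∈ range d, f n) + 1 = (N - 1).choose 2 + (N - e) + ε := by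
  choose j hj1 hj hj2 using hf
  have hs := sum_dims N e d he hd
  simp only [← hδ] at hs
  rw [← sum_congr rfl fun n _ => hj n, sum_add_distrib] at hs
  have hbig : ∀ n, N ≤ n → j n = 0 := fun n hn => by
    have := hj n
    rw [hδ n, if_neg (by omega)] at this
    omega
  have hub : ∑ n ∈ range d, j n ≤ N := by
    calc ∑ n ∈ range d, j n = ∑ n ∈ (range d).filter (· < N), j n := by
          refine (sum_filter_of_ne fun n _ h => ?_).symm
          by_contra hn
          exact h (hbig n (by omega))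
      _ ≤ ∑ n ∈ (range d).filter (· < N), 1 := sum_le_sum fun n _ => hj1 n
      _ ≤ N := by
          rw [sum_const, smul_eq_mul, mul_one]
          exact (card_le_card (fun n hn => mem_range.2 (mem_filter.1 hn).2)).trans_eq (card_range N)
  have hlb : N - 1 ≤ ∑ n ∈ range d, j n := by
    calc N - 1 = ∑ n ∈ range (N - 1), j n := by
          rw [sum_congr rfl fun n hn => hj2 n (by rw [mem_range] at hn; omega), sum_const, card_range]
          simp
      _ ≤ _ := sum_le_sum_of_subset (range_subset_range.2 (by omega))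
  obtain ⟨N', rfl⟩ : ∃ N', N = N' + 1 := ⟨N - 1, by omega⟩
  have hc : (N' + 1 + 1).choose 2 = N'.choose 2 + (2 * N' + 1) := by
    have h1 := Nat.choose_succ_succ (N' + 1) 1
    have h2 := Nat.choose_succ_succ N' 1
    simp only [Nat.succ_eq_add_one, Nat.choose_one_right, show (1 : ℕ) + 1 = 2 from rfl] at h1 h2
    omega
  refine ⟨N' + 1 - ∑ n ∈ range d, j n, by omega, ?_⟩
  rw [Nat.add_sub_cancel]
  omega

/-- Weights when vanishing of order two is automatic. -/
theorem weight_low (N e d : ℕ) (he1 : 1 ≤ e) (he : e ≤ N) (hd : N ≤ d ∨ (d + 1 = N ∧ e = N))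
    (δ f : ℕ → ℕ) (hδ : ∀ n, δ n = if n + 1 ≤ e then N - (n + 1) else N + 1 - (n + 1))
    (hf : ∀ n, ∃ j, j ≤ 1 ∧ f n + j = δ n ∧ (1 ≤ n → j = 0)) :
    ∃ ε : ℕ, ε ≤ 1 ∧ (∑ n ∈ range d, f n) = (N - 1).choose 2 + (N - e) + (N - 2) + ε := by
  choose j hj1 hj hj2 using hf
  have hs := sum_dims N e d he hd
  simp only [← hδ] at hs
  rw [← sum_congr rfl fun n _ => hj n, sum_add_distrib] at hs
  obtain ⟨N', rfl⟩ : ∃ N', N = N' + 1 := ⟨N - 1, by omega⟩
  have hc : (N' + 1 + 1).choose 2 = N'.choose 2 + (2 * N' + 1) := by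
    have h1 := Nat.choose_succ_succ (N' + 1) 1
    have h2 := Nat.choose_succ_succ N' 1
    simp only [Nat.succ_eq_add_one, Nat.choose_one_right, show (1 : ℕ) + 1 = 2 from rfl] at h1 h2
    omega
  rcases Nat.eq_zero_or_pos d with rfl | hd0
  · refine ⟨0, by omega, ?_⟩
    have : N' = 0 := by omega
    subst this
    simp
    omega
  have hJ : ∑ n ∈ range d, j n = j 0 :=
    sum_eq_single_of_mem 0 (mem_range.2 hd0) fun n _ hn => hj2 n (by omega)
  rw [hJ] at hs
  have := hj1 0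
  rcases Nat.eq_zero_or_pos N' with rfl | hN'
  · refine ⟨0, by omega, ?_⟩
    have h0 := hj 0
    rw [hδ 0, if_pos he1] at h0
    simp only [Nat.add_sub_cancel]
    omega
  refine ⟨1 - j 0, by omega, ?_⟩
  rw [Nat.add_sub_cancel]
  omega

/-- Weight at a puncture. -/
theorem IsHyp.weight_root (h : IsHyp r a b V₁ φ) (hr : Function.Injective r) (hb : 1 ≤ b) (i : Fin m) (hai : 1 ≤ a i)
    (hφ : ¬(φ ((X - C (r i)) ^ ((∑ l, a l) + b)) = 0 ∧ φ ((X - C (r i)) ^ ((∑ l, a l) + b - 1)) = 0))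
    (d : ℕ) (hd : d + 1 = (∑ l, (a l + 1)) + b) :
    ∃ ε : ℕ, ε ≤ 1 ∧
      (∑ n ∈ range d, Module.finrank k ↥(V₁ ⊓ (Ideal.span {(X - C (r i)) ^ (n + 1)}).restrictScalars k)) + 1 =
        ((∑ l, a l) + b - 1).choose 2 + ((∑ l, a l) + b - a i) + ε := by
  classical
  have hm : 0 < m := i.pos
  rw [sum_add_distrib, sum_const, card_univ, Fintype.card_fin, smul_eq_mul, mul_one] at hd
  refine weight_high _ (a i) d hai (le_trans (single_le_sum (fun j _ => Nat.zero_le _) (mem_univ i)) (Nat.le_add_right _ b))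
    (Or.inl (by omega)) (fun n => Module.finrank k ↥(SYS r a b ⊓ (Ideal.span {(X - C (r i)) ^ (n + 1)}).restrictScalars k))
    _ (fun n => finrank_SYS_root r a b hr i (n + 1)) fun n => ?_
  rw [← inf_eq_left.2 (h.le hr), inf_assoc, SYS_root r a b hr]
  refine ⟨_, ?_, h.finrank_inf inf_le_left, fun hn => if_neg fun hle => hφ ?_⟩
  · split <;> omega
  have hmem : ∀ e, e ≤ (∑ l, a l) + b → n + 1 ≤ e → (X - C (r i)) ^ e ∈ SR r a b i (n + 1) := fun e h1 h2 =>
    ⟨mem_degreeLT.2 (by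
      rw [degree_pow, degree_X_sub_C, nsmul_one]
      exact_mod_cast Nat.lt_succ_of_le h1), Ideal.mem_span_singleton.2 (pow_dvd_pow _ h2)⟩
  exact ⟨hle (hmem _ le_rfl (by omega)), hle (hmem _ (by omega) hn)⟩

/-- Weight at infinity, first kind. -/
theorem IsHyp.weight_infty (h : IsHyp r a b V₁ φ) (hr : Function.Injective r) (hb : 1 ≤ b)
    (hφ : ¬(φ 1 = 0 ∧ φ X = 0)) (d : ℕ) (hd : d + 1 = (∑ l, (a l + 1)) + b) :
    ∃ ε : ℕ, ε ≤ 1 ∧ (∑ n ∈ range d, Module.finrank k ↥(V₁ ⊓ degreeLT k (d - n))) + 1 =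
        ((∑ l, a l) + b - 1).choose 2 + ((∑ l, a l) + b - b) + ε := by
  classical
  rw [sum_add_distrib, sum_const, card_univ, Fintype.card_fin, smul_eq_mul, mul_one] at hd
  refine weight_high _ b d hb (Nat.le_add_left b _) (by
    rcases Nat.eq_zero_or_pos m with rfl | hm
    · exact Or.inr ⟨by simp at hd ⊢; omega, by simp⟩
    · exact Or.inl (by omega))
    (fun n => Module.finrank k ↥(SYS r a b ⊓ degreeLT k ((∑ l, a l) + b + m - (n + 1))))
    _ (fun n => finrank_SYS_infty r a b hr (n + 1)) fun n => ?_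
  rw [show d - n = (∑ l, a l) + b + m - (n + 1) by omega, ← inf_eq_left.2 (h.le hr), inf_assoc,
    SYS_infty r a b hr]
  refine ⟨_, ?_, h.finrank_inf (SI_le a b _), fun hn => if_neg fun hle => hφ ⟨hle ?_, hle ?_⟩⟩
  · split <;> omega
  · exact mem_LT_iff.2 fun l hl => by rw [coeff_one, if_neg (by omega)]
  · exact mem_LT_iff.2 fun l hl => by rw [coeff_X, if_neg (by omega)]

/-- Weight at infinity, second kind. -/
theorem IsHyp.weight_infty' (h : IsHyp r a b V₁ φ) (hr : Function.Injective r) (hb : 1 ≤ b)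
    (hφ : degreeLT k ((∑ l, a l) + b - 1) ≤ LinearMap.ker φ) (d : ℕ) (hd : d + 1 = (∑ l, (a l + 1)) + b) :
    ∃ ε : ℕ, ε ≤ 1 ∧ (∑ n ∈ range d, Module.finrank k ↥(V₁ ⊓ degreeLT k (d - n))) =
        ((∑ l, a l) + b - 1).choose 2 + ((∑ l, a l) + b - b) + ((∑ l, a l) + b - 2) + ε := by
  classical
  rw [sum_add_distrib, sum_const, card_univ, Fintype.card_fin, smul_eq_mul, mul_one] at hd
  refine weight_low _ b d hb (Nat.le_add_left b _) (by
    rcases Nat.eq_zero_or_pos m with rfl | hm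
    · exact Or.inr ⟨by simp at hd ⊢; omega, by simp⟩
    · exact Or.inl (by omega))
    (fun n => Module.finrank k ↥(SYS r a b ⊓ degreeLT k ((∑ l, a l) + b + m - (n + 1))))
    _ (fun n => finrank_SYS_infty r a b hr (n + 1)) fun n => ?_
  rw [show d - n = (∑ l, a l) + b + m - (n + 1) by omega, ← inf_eq_left.2 (h.le hr), inf_assoc,
    SYS_infty r a b hr]
  refine ⟨_, ?_, h.finrank_inf (SI_le a b _), fun hn => if_pos (le_trans (degreeLT_mono (by omega)) hφ)⟩
  split <;> omega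

/-- The value of the derivative at a point. -/
def evalForm (r : Fin m → k) (a : Fin m → ℕ) (p : k) : k[X] →ₗ[k] k := (Polynomial.aeval p).toLinearMap.comp (LL r a)

lemma evalForm_apply (p : k) (P : k[X]) : evalForm r a p P = (LL r a P).eval p := by
  simp [evalForm]

lemma evalForm_pow (p q : k) (n : ℕ) :
    (p - q) * evalForm r a p ((X - C q) ^ n) =
      (p - q) ^ n * ((n : k) * (RR r).eval p - (p - q) * (MM r a).eval p) := by
  rw [evalForm_apply, LL_apply, derivative_X_sub_C_pow]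
  rcases n with _ | n
  · simp
  · simp only [Polynomial.eval_sub, eval_mul, eval_pow, eval_C, eval_X, Nat.add_sub_cancel]
    ring

lemma evalForm_not_both {p q : k} (hp : ∀ j, p ≠ r j) (hpq : q ≠ p) {N : ℕ} (hN : 1 ≤ N) :
    ¬(evalForm r a p ((X - C q) ^ N) = 0 ∧ evalForm r a p ((X - C q) ^ (N - 1)) = 0) := by
  rintro ⟨h1, h2⟩
  have hd : p - q ≠ 0 := sub_ne_zero.2 hpq.symm
  have e1 := evalForm_pow (r := r) (a := a) p q N
  have e2 := evalForm_pow (r := r) (a := a) p q (N - 1)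
  rw [h1, mul_zero, eq_comm, mul_eq_zero, or_iff_right (pow_ne_zero _ hd)] at e1
  rw [h2, mul_zero, eq_comm, mul_eq_zero, or_iff_right (pow_ne_zero _ hd), Nat.cast_sub hN] at e2
  exact eval_RR_ne r hp (by push_cast at e2; linear_combination e1 - e2)

theorem isHyp_point (hr : Function.Injective r) (hb : 1 ≤ b) {p : k} (hp : ∀ j, p ≠ r j) :
    IsHyp r a b (SYS r a b ⊓ (Ideal.span {X - C p}).restrictScalars k) (evalForm r a p) := by
  refine ⟨?_, by rw [evalForm_apply, LL_EE, eval_zero], fun hle => ?_⟩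
  · rw [SYS_eq r a b hr]
    ext x
    constructor
    · rintro ⟨⟨P, hP, rfl⟩, hd⟩
      exact ⟨P, ⟨hP, (evalForm_apply (r := r) (a := a) p P).trans (dvd_iff_isRoot.1 (Ideal.mem_span_singleton.1 hd))⟩, rfl⟩
    · rintro ⟨P, ⟨hP, hφ⟩, rfl⟩
      exact ⟨⟨P, hP, rfl⟩, Ideal.mem_span_singleton.2 (dvd_iff_isRoot.2
        ((evalForm_apply (r := r) (a := a) p P).symm.trans hφ))⟩
  · have h1 := hle (show (1 : k[X]) ∈ Prim (k := k) a b from mem_LT_iff.2 fun l hl => by rw [coeff_one, if_neg (by omega)])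
    have hX := hle (show (X : k[X]) ∈ Prim (k := k) a b from mem_LT_iff.2 fun l hl => by rw [coeff_X, if_neg (by omega)])
    simp only [LinearMap.mem_ker, evalForm_apply, LL_apply, derivative_X, derivative_one, zero_mul, one_mul, zero_sub,
      eval_neg, neg_eq_zero, Polynomial.eval_sub, eval_mul, eval_X] at h1 hX
    rw [h1, mul_zero, sub_zero] at hX
    exact eval_RR_ne r hp hX

/-- Primitives without the two top polar orders lie over the hyperplane. -/
theorem low_le_comap (hr : Function.Injective r) (hb : 1 ≤ b)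
    (hU : (degreeLT k (b - 2)).map (LinearMap.mulLeft k (∏ j, (X - C (r j)) ^ (a j + 1))) ⊔
      (⨆ i, (degreeLT k (a i)).map (LinearMap.mulLeft k (∏ j ∈ univ.erase i, (X - C (r j)) ^ (a j + 1)))) ≤ V₁) :
    degreeLT k ((∑ l, a l) + max (b - 1) 1) ≤ V₁.comap (LL r a) := by
  obtain ⟨h1, h2⟩ := sup_le_iff.1 hU
  rw [iSup_le_iff] at h2
  intro P hP
  obtain ⟨Q, G, hQ, hG, rfl⟩ := decompose r a hr (show ∑ l, a l < (∑ l, a l) + max (b - 1) 1 by omega) hP
  rw [Submodule.mem_comap, map_add, map_sum, LL_EE_mul, DD_eq]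
  refine Submodule.add_mem _ (h1 (Submodule.mem_map_of_mem (f := LinearMap.mulLeft k _) ?_))
    (Submodule.sum_mem _ fun i _ => ?_)
  · rw [mem_LT_iff]
    intro l hl
    rw [coeff_derivative, mem_LT_iff.1 hQ (l + 1) (by omega), zero_mul]
  · rw [LL_EI_mul]
    refine h2 i (Submodule.mem_map_of_mem (f := LinearMap.mulLeft k _) ?_)
    refine Submodule.sub_mem _ ?_ ?_
    · rw [mem_LT_iff]
      intro l hl
      rw [sub_mul, coeff_sub, coeff_C_mul, coeff_derivative, mem_LT_iff.1 (hG i) (l + 1) (by omega), zero_mul, mul_zero, sub_zero]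
      rcases l with _ | l
      · simp
      · rw [coeff_X_mul, coeff_derivative, mem_LT_iff.1 (hG i) (l + 1) hl, zero_mul]
    · rw [← smul_eq_C_mul]; exact Submodule.smul_mem _ _ (hG i)

lemma exists_form {W T : Submodule k k[X]} [Module.Finite k W] (hTW : T ≤ W)
    (h : Module.finrank k T + 1 = Module.finrank k W) :
    ∃ φ : k[X] →ₗ[k] k, W ⊓ LinearMap.ker φ = T ∧ ¬W ≤ LinearMap.ker φ := by
  have hlt : ¬W ≤ T := fun hle => by
    rw [le_antisymm hle hTW] at h
    omega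
  obtain ⟨x, hxW, hxT⟩ := SetLike.not_le_iff_exists.1 hlt
  obtain ⟨φ, hφx, hφT⟩ := Submodule.exists_dual_map_eq_bot_of_notMem hxT inferInstance
  have hφT' : T ≤ LinearMap.ker φ := fun y hy => by
    have : φ y ∈ T.map φ := ⟨y, hy, rfl⟩
    rwa [hφT, Submodule.mem_bot] at this
  have hn : ¬W ≤ LinearMap.ker φ := fun hle => hφx (hle hxW)
  have : Module.Finite k ↥(W ⊓ LinearMap.ker φ) :=
    Module.Finite.of_injective (Submodule.inclusion inf_le_left) (Submodule.inclusion_injective _)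
  have h1 := finrank_hyperplane φ hn
  exact ⟨φ, (Submodule.eq_of_le_of_finrank_le (le_inf hTW hφT') (by omega)).symm, hn⟩

/-- The hyperplanes containing all but two top polar orders at infinity. -/
theorem isHyp_top (hr : Function.Injective r) (hb : 1 ≤ b) (hV₁ : V₁ ≤ SYS r a b)
    (hfin : Module.finrank k ↥V₁ + 1 = (∑ l, a l) + b)
    (hU : (degreeLT k (b - 2)).map (LinearMap.mulLeft k (∏ j, (X - C (r j)) ^ (a j + 1))) ⊔
      (⨆ i, (degreeLT k (a i)).map (LinearMap.mulLeft k (∏ j ∈ univ.erase i, (X - C (r j)) ^ (a j + 1)))) ≤ V₁) :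
    ∃ φ : k[X] →ₗ[k] k, IsHyp r a b V₁ φ ∧ degreeLT k ((∑ l, a l) + b - 1) ≤ LinearMap.ker φ ∧
      (b = 1 → φ (X ^ ((∑ l, a l) + b - 1)) = 0) := by
  classical
  generalize hA : (∑ l, a l) = A at hfin ⊢
  generalize hTdef : Prim (k := k) a b ⊓ V₁.comap (LL r a) = T
  have hmapT : T.map (LL r a) = V₁ := by
    rw [← hTdef]
    refine le_antisymm (Submodule.map_le_iff_le_comap.2 inf_le_right) fun x hx => ?_
    have h' := hV₁ hx
    rw [SYS_eq r a b hr] at h'
    obtain ⟨P, hP, rfl⟩ := h'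
    exact ⟨P, ⟨hP, hx⟩, rfl⟩
  have hlow : degreeLT k (A + max (b - 1) 1) ≤ T := by
    rw [← hTdef, ← hA]
    exact le_inf (degreeLT_mono (by omega)) (low_le_comap hr hb hU)
  have hE : EE r a ∈ T := hlow (EE_mem_LT r a (by omega))
  have : Module.Finite k ↥T := finite_of_le (hTdef.symm.le.trans inf_le_left)
  have hTfin : Module.finrank k ↥T = A + b := by
    have h := finrank_map_LL r a (T := T)
    rw [hmapT, if_pos hE] at h
    omega
  obtain ⟨φ, heq, hn⟩ := exists_form (W := Prim (k := k) a b) (hTdef.symm.le.trans inf_le_left)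
    (by rw [hTfin, finrank_LT, hA])
  have hker : ∀ y ∈ T, φ y = 0 := fun y hy => (heq.symm ▸ hy : y ∈ Prim a b ⊓ LinearMap.ker φ).2
  refine ⟨φ, ⟨by rw [heq, hmapT], hker _ hE, hn⟩,
    fun y hy => hker y (hlow (degreeLT_mono (by omega) hy)), fun hb1 => hker _ (hlow ?_)⟩
  exact mem_LT_iff.2 fun l hl => by rw [coeff_X_pow, if_neg (by omega)]

lemma top_expand {A : ℕ} {φ : k[X] →ₗ[k] k} (hφ : degreeLT k (A + b - 1) ≤ LinearMap.ker φ) (hb : 1 ≤ b) (q : k) :
    φ ((X - C q) ^ (A + b)) = φ (X ^ (A + b)) - ((A + b : ℕ) : k) * q * φ (X ^ (A + b - 1)) ∧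
      φ ((X - C q) ^ (A + b - 1)) = φ (X ^ (A + b - 1)) := by
  obtain ⟨M, hM⟩ : ∃ M, A + b = M + 1 := ⟨A + b - 1, by omega⟩
  rw [hM, Nat.add_sub_cancel] at hφ ⊢
  have h0 : ∀ P : k[X], (∀ l, M ≤ l → P.coeff l = 0) → φ P = 0 := fun P hP => hφ (mem_LT_iff.2 hP)
  have hco : ∀ n l : ℕ, ((X - C q) ^ n).coeff l = (-q) ^ (n - l) * (n.choose l : k) := fun n l => by
    rw [sub_eq_add_neg, ← map_neg, coeff_X_add_C_pow]
  have e1 : φ ((X - C q) ^ (M + 1) - X ^ (M + 1) + C (((M + 1 : ℕ) : k) * q) * X ^ M) = 0 := h0 _ fun l hl => by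
    rw [coeff_add, coeff_sub, coeff_C_mul, coeff_X_pow, coeff_X_pow, hco]
    rcases lt_trichotomy l (M + 1) with h | rfl | h
    · obtain rfl : l = M := by omega
      simp [Nat.choose_succ_self_right]
      ring
    · simp
    · simp [Nat.choose_eq_zero_of_lt h, h.ne', (show l ≠ M by omega)]
  have e2 : φ ((X - C q) ^ M - X ^ M) = 0 := h0 _ fun l hl => by
    rw [coeff_sub, coeff_X_pow, hco]
    rcases eq_or_lt_of_le hl with rfl | h
    · simp
    · simp [Nat.choose_eq_zero_of_lt h, h.ne']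
  rw [map_add, map_sub, ← smul_eq_C_mul, map_smul, smul_eq_mul] at e1
  rw [map_sub, sub_eq_zero] at e2
  exact ⟨by linear_combination e1, e2⟩

lemma top_not_both {A : ℕ} {φ : k[X] →ₗ[k] k} (hnz : ¬degreeLT k (A + b + 1) ≤ LinearMap.ker φ)
    (hφ : degreeLT k (A + b - 1) ≤ LinearMap.ker φ) (hb : 1 ≤ b) (q : k) :
    ¬(φ ((X - C q) ^ (A + b)) = 0 ∧ φ ((X - C q) ^ (A + b - 1)) = 0) := by
  rintro ⟨h1, h2⟩
  obtain ⟨e1, e2⟩ := top_expand hφ hb q
  rw [e2] at h2
  rw [e1, h2, mul_zero, sub_zero] at h1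
  refine hnz fun P hP => ?_
  have h3 : φ (P - C (P.coeff (A + b)) * X ^ (A + b) - C (P.coeff (A + b - 1)) * X ^ (A + b - 1)) = 0 := by
    refine hφ (mem_LT_iff.2 fun l hl => ?_)
    rw [coeff_sub, coeff_sub, coeff_C_mul_X_pow, coeff_C_mul_X_pow]
    rcases (show l = A + b - 1 ∨ l = A + b ∨ A + b < l by omega) with rfl | rfl | h
    · rw [if_neg (by omega), if_pos rfl]; ring
    · rw [if_pos rfl, if_neg (by omega)]; ring
    · rw [if_neg (by omega), if_neg (by omega), mem_LT_iff.1 hP l (by omega)]; ring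
  rw [map_sub, map_sub, ← smul_eq_C_mul, map_smul, ← smul_eq_C_mul, map_smul, h1, h2, smul_zero, smul_zero,
    sub_zero, sub_zero] at h3
  exact h3

end Groth.Agent.Lib.Wronsk
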