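import Mathlib.RingTheory.Polynomial.Basic
import Mathlib.RingTheory.Coprime.Lemmas
import Mathlib.RingTheory.Ideal.Span
import Mathlib.Algebra.Polynomial.Taylor
import Mathlib.LinearAlgebra.FiniteDimensional.Lemmas
import Mathlib.LinearAlgebra.Dual.Lemmas
import Mathlib.Tactic.LinearCombination
import Mathlib.Algebra.Polynomial.FieldDivision

/-!
# Systems of differentials without residues on the punctured line
-/

noncomputable section

namespace Groth.Agent.Lib.Wronsk

open Polynomial Finset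

variable {k : Type*} [Field k] [CharZero k] {m : ℕ} (r : Fin m → k) (a : Fin m → ℕ)

/-- The reduced divisor polynomial. -/
def RR : k[X] := ∏ l, (X - C (r l))

/-- The logarithmic derivative numerator. -/
def MM : k[X] := ∑ j, C (a j : k) * ∏ l ∈ univ.erase j, (X - C (r l))

/-- The polar divisor of the primitives. -/
def EE : k[X] := ∏ l, (X - C (r l)) ^ a l

/-- The derivative of a primitive, cleared of denominators. -/
def LL : k[X] →ₗ[k] k[X] :=
  (LinearMap.mulRight k (RR r)).comp derivative - LinearMap.mulRight k (MM r a)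

lemma LL_apply (P : k[X]) : LL r a P = derivative P * RR r - P * MM r a := rfl

lemma RR_monic : (RR r).Monic := monic_prod_of_monic _ _ fun l _ => monic_X_sub_C _

lemma RR_natDegree : (RR r).natDegree = m := by simp [RR]

lemma EE_monic : (EE r a).Monic := monic_prod_of_monic _ _ fun l _ => (monic_X_sub_C _).pow _

lemma EE_natDegree : (EE r a).natDegree = ∑ l, a l := by
  rw [EE, natDegree_prod_of_monic _ _ fun l _ => (monic_X_sub_C _).pow _]
  simp

lemma RR_eq (i : Fin m) : RR r = (X - C (r i)) * ∏ l ∈ univ.erase i, (X - C (r l)) :=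
  (mul_prod_erase univ (fun l => X - C (r l)) (mem_univ i)).symm

lemma eval_RR_ne {q : k} (hq : ∀ j, q ≠ r j) : (RR r).eval q ≠ 0 := by
  rw [RR, eval_prod]
  exact prod_ne_zero_iff.2 fun l _ => by simpa [sub_eq_zero] using hq l

lemma eval_erase_ne (hr : Function.Injective r) (i : Fin m) :
    (∏ l ∈ univ.erase i, (X - C (r l))).eval (r i) ≠ 0 := by
  rw [eval_prod]
  exact prod_ne_zero_iff.2 fun l hl => by
    simpa [sub_eq_zero] using fun h => (mem_erase.1 hl).1 (hr h).symm

lemma deriv_EE : derivative (EE r a) * RR r = EE r a * MM r a := by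
  rw [EE, derivative_prod_finset, sum_mul, MM, mul_sum]
  refine sum_congr rfl fun j _ => ?_
  rw [← mul_prod_erase univ (fun l => (X - C (r l)) ^ a l) (mem_univ j), derivative_X_sub_C_pow, RR_eq r j]
  rcases a j with _ | n
  · simp
  · rw [Nat.add_sub_cancel]; ring

lemma LL_EE : LL r a (EE r a) = 0 := by rw [LL_apply, deriv_EE, sub_self]

lemma LL_EE_mul (Q : k[X]) : LL r a (EE r a * Q) = RR r * EE r a * derivative Q := by
  rw [LL_apply, derivative_mul, add_mul, mul_right_comm (derivative (EE r a)), deriv_EE]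
  ring

lemma DD_eq : RR r * EE r a = ∏ l, (X - C (r l)) ^ (a l + 1) := by
  rw [RR, EE, ← prod_mul_distrib]
  exact prod_congr rfl fun l _ => by rw [pow_succ']

/-- The divisor of the primitives away from one point. -/
def EI (i : Fin m) : k[X] := ∏ l ∈ univ.erase i, (X - C (r l)) ^ a l

lemma EE_eq (i : Fin m) : EE r a = (X - C (r i)) ^ a i * EI r a i :=
  (mul_prod_erase univ (fun l => (X - C (r l)) ^ a l) (mem_univ i)).symm

lemma LL_EI_mul (i : Fin m) (G : k[X]) : LL r a (EI r a i * G) =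
    (∏ l ∈ univ.erase i, (X - C (r l)) ^ (a l + 1)) * ((X - C (r i)) * derivative G - C (a i : k) * G) := by
  refine mul_left_cancel₀ (pow_ne_zero (a i) (X_sub_C_ne_zero (r i))) ?_
  have h1 : (X - C (r i)) ^ a i * LL r a (EI r a i * G) =
      LL r a (EE r a * G) - derivative ((X - C (r i)) ^ a i) * RR r * (EI r a i * G) := by
    rw [EE_eq r a i, LL_apply, LL_apply, mul_assoc ((X - C (r i)) ^ a i) (EI r a i) G, derivative_mul (f := (X - C (r i)) ^ a i)]
    ring
  have h2 : (∏ l ∈ univ.erase i, (X - C (r l)) ^ (a l + 1)) = (∏ l ∈ univ.erase i, (X - C (r l))) * EI r a i := by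
    rw [EI, ← prod_mul_distrib]
    exact prod_congr rfl fun l _ => by rw [pow_succ']
  rw [h1, LL_EE_mul, h2, EE_eq r a i, RR_eq r i, derivative_X_sub_C_pow]
  rcases a i with _ | n
  · simp; ring
  · rw [Nat.add_sub_cancel]; ring

variable (b : ℕ)

/-- The linear system. -/
def SYS : Submodule k k[X] :=
  (degreeLT k b).map (LinearMap.mulLeft k (∏ j, (X - C (r j)) ^ (a j + 1))) ⊔
    ⨆ i, (degreeLT k (a i)).map (LinearMap.mulLeft k (∏ j ∈ univ.erase i, (X - C (r j)) ^ (a j + 1)))

lemma mem_LT_iff {n : ℕ} {P : k[X]} : P ∈ degreeLT k n ↔ ∀ l, n ≤ l → P.coeff l = 0 := by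
  rw [mem_degreeLT, degree_lt_iff_coeff_zero]

lemma exists_primitive (n : ℕ) {F : k[X]} (hF : F ∈ degreeLT k n) :
    ∃ Q ∈ degreeLT k (n + 1), derivative Q = F := by
  refine ⟨∑ l ∈ range n, C (F.coeff l / (l + 1 : k)) * X ^ (l + 1), Submodule.sum_mem _ fun l hl => ?_, ?_⟩
  · rw [mem_degreeLT]
    rw [mem_range] at hl
    exact (degree_C_mul_X_pow_le _ _).trans_lt (by exact_mod_cast Nat.succ_lt_succ hl)
  · simp only [map_sum, derivative_C_mul_X_pow, Nat.add_sub_cancel]
    rcases eq_or_ne F 0 with rfl | hF0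
    · simp
    conv_rhs => rw [F.as_sum_range_C_mul_X_pow' (natDegree_lt_iff_degree_lt hF0 |>.2 (mem_degreeLT.1 hF))]
    refine sum_congr rfl fun l _ => ?_
    have hl : ((l + 1 : ℕ) : k) ≠ 0 := Nat.cast_ne_zero.2 l.succ_ne_zero
    push_cast at hl ⊢
    rw [div_mul_cancel₀ _ hl]

lemma exists_primitive_pole (i : Fin m) {F : k[X]} (hF : F ∈ degreeLT k (a i)) :
    ∃ G ∈ degreeLT k (a i), (X - C (r i)) * derivative G - C (a i : k) * G = F := by
  set c := fun l => (taylor (r i) F).coeff l
  refine ⟨∑ l ∈ range (a i), C (c l / ((l : k) - a i)) * (X - C (r i)) ^ l, Submodule.sum_mem _ fun l hl => ?_, ?_⟩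
  · rw [mem_degreeLT]
    rw [mem_range] at hl
    refine lt_of_le_of_lt degree_le_natDegree (WithBot.coe_lt_coe.2 (lt_of_le_of_lt ?_ hl))
    exact (natDegree_C_mul_le _ _).trans (natDegree_pow_le.trans (by simp))
  · have hF' : F = ∑ l ∈ range (a i), C (c l) * (X - C (r i)) ^ l := by
      rcases eq_or_ne F 0 with rfl | hF0
      · simp [c]
      conv_lhs => rw [← sum_taylor_eq F (r i)]
      refine sum_over_range' _ (fun l => by simp) _ ?_
      rw [natDegree_taylor]
      exact natDegree_lt_iff_degree_lt hF0 |>.2 (mem_degreeLT.1 hF)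
    conv_rhs => rw [hF']
    rw [map_sum, mul_sum, mul_sum, ← sum_sub_distrib]
    refine sum_congr rfl fun l hl => ?_
    rw [mem_range] at hl
    have hne : (l : k) - a i ≠ 0 := sub_ne_zero.2 (Nat.cast_injective.ne hl.ne)
    rw [derivative_C_mul, derivative_X_sub_C_pow]
    have e : C (c l) = C (c l / ((l : k) - a i)) * (C (l : k) - C (a i : k)) := by
      rw [← map_sub, ← map_mul, div_mul_cancel₀ _ hne]
    rw [e]
    rcases l with _ | l
    · simp; ring
    · rw [Nat.add_sub_cancel]; ring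

/-- The primitives. -/
abbrev Prim : Submodule k k[X] := degreeLT k ((∑ l, a l) + b + 1)

lemma EE_mem_LT {n : ℕ} (h : ∑ l, a l < n) : EE r a ∈ degreeLT k n := by
  rw [mem_degreeLT]
  exact lt_of_le_of_lt degree_le_natDegree (by rw [EE_natDegree]; exact_mod_cast h)

lemma EE_mem : EE r a ∈ Prim (k := k) a b := EE_mem_LT r a (by omega)

lemma mul_mem_LT {F G : k[X]} {u v w : ℕ} (hF : F.natDegree ≤ u) (hG : G ∈ degreeLT k v) (h : u + v ≤ w) :
    F * G ∈ degreeLT k w := by
  rw [mem_degreeLT] at hG ⊢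
  rcases eq_or_ne G 0 with rfl | hG0
  · simpa using WithBot.bot_lt_coe _
  refine lt_of_le_of_lt degree_le_natDegree ((Nat.cast_lt (α := WithBot ℕ)).2 (lt_of_le_of_lt natDegree_mul_le ?_))
  have := (natDegree_lt_iff_degree_lt hG0).2 hG
  omega

/-- Every primitive is a polynomial part plus principal parts. -/
theorem decompose (hr : Function.Injective r) {K : ℕ} {P : k[X]} (hK : ∑ l, a l < K) (hP : P ∈ degreeLT k K) :
    ∃ (Q : k[X]) (G : Fin m → k[X]), Q ∈ degreeLT k (K - ∑ l, a l) ∧ (∀ i, G i ∈ degreeLT k (a i)) ∧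
      P = EE r a * Q + ∑ i, EI r a i * G i := by
  have hcop : ∀ i, IsCoprime (EI r a i) ((X - C (r i)) ^ a i) := fun i => IsCoprime.prod_left fun l hl =>
    IsCoprime.pow (pairwise_coprime_X_sub_C hr (mem_erase.1 hl).1)
  choose u v huv using fun i => (hcop i : ∃ u v : k[X], u * EI r a i + v * (X - C (r i)) ^ a i = 1)
  let G : Fin m → k[X] := fun i => (P * u i) %ₘ ((X - C (r i)) ^ a i)
  have hG : ∀ i, G i ∈ degreeLT k (a i) := fun i => by
    rw [mem_degreeLT]
    refine (degree_modByMonic_lt _ ((monic_X_sub_C _).pow _)).trans_eq ?_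
    rw [degree_pow, degree_X_sub_C]
    simp
  have hdvd : EE r a ∣ P - ∑ i, EI r a i * G i := by
    refine Finset.prod_dvd_of_coprime (fun x _ y _ hxy => IsCoprime.pow (pairwise_coprime_X_sub_C hr hxy)) fun i _ => ?_
    rw [← add_sum_erase univ _ (mem_univ i), sub_add_eq_sub_sub]
    refine dvd_sub ?_ (dvd_sum fun j hj => Dvd.dvd.mul_right
      (dvd_prod_of_mem (fun l => (X - C (r l)) ^ a l) (mem_erase.2 ⟨(mem_erase.1 hj).1.symm, mem_univ i⟩)) _)
    refine ⟨P * v i + EI r a i * ((P * u i) /ₘ (X - C (r i)) ^ a i), ?_⟩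
    have h1 := modByMonic_add_div (P * u i) ((X - C (r i)) ^ a i)
    simp only [G]
    linear_combination (-P) * huv i - (EI r a i) * h1
  obtain ⟨Q, hQ⟩ := hdvd
  refine ⟨Q, G, ?_, hG, by rw [← hQ]; ring⟩
  have hdeg : EE r a * Q ∈ degreeLT k K := by
    rw [← hQ]
    refine Submodule.sub_mem _ hP (Submodule.sum_mem _ fun i _ => mul_mem_LT (u := ∑ l ∈ univ.erase i, a l) ?_ (hG i) ?_)
    · rw [EI, natDegree_prod_of_monic _ _ fun l _ => (monic_X_sub_C _).pow _]
      simp
    · rw [← add_sum_erase univ _ (mem_univ i)] at hK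
      omega
  rw [mem_degreeLT] at hdeg ⊢
  rcases eq_or_ne Q 0 with rfl | hQ0
  · simpa using WithBot.bot_lt_coe _
  rw [← natDegree_lt_iff_degree_lt (mul_ne_zero (EE_monic r a).ne_zero hQ0), (EE_monic r a).natDegree_mul' hQ0,
    EE_natDegree] at hdeg
  rw [← natDegree_lt_iff_degree_lt hQ0]
  omega

theorem SYS_eq (hr : Function.Injective r) : SYS r a b = (Prim a b).map (LL r a) := by
  apply le_antisymm
  · refine sup_le ?_ (iSup_le fun i => ?_)
    · rintro _ ⟨F, hF, rfl⟩
      obtain ⟨Q, hQ, rfl⟩ := exists_primitive b hF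
      refine ⟨EE r a * Q, mul_mem_LT (EE_natDegree r a).le hQ (by omega), ?_⟩
      rw [LL_EE_mul, DD_eq]
      rfl
    · rintro _ ⟨F, hF, rfl⟩
      obtain ⟨G, hG, rfl⟩ := exists_primitive_pole r a i hF
      refine ⟨EI r a i * G, mul_mem_LT (u := ∑ l ∈ univ.erase i, a l) ?_ hG ?_, ?_⟩
      · rw [EI, natDegree_prod_of_monic _ _ fun l _ => (monic_X_sub_C _).pow _]
        simp
      · rw [← add_sum_erase univ _ (mem_univ i)]
        omega
      · rw [LL_EI_mul]
        rfl
  · rintro _ ⟨P, hP, rfl⟩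
    obtain ⟨Q, G, hQ, hG, rfl⟩ := decompose r a hr (by omega) hP
    rw [map_add, map_sum]
    refine Submodule.add_mem_sup ⟨derivative Q, ?_, ?_⟩ (Submodule.sum_mem _ fun i _ =>
      Submodule.mem_iSup_of_mem i ⟨(X - C (r i)) * derivative (G i) - C (a i : k) * G i, ?_, ?_⟩)
    · rw [SetLike.mem_coe, mem_LT_iff] at *
      intro l hl
      rw [coeff_derivative, hQ (l + 1) (by omega), zero_mul]
    · rw [LL_EE_mul, DD_eq]; rfl
    · rw [SetLike.mem_coe]
      refine Submodule.sub_mem _ ?_ ?_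
      · rw [mem_LT_iff]
        intro l hl
        rw [sub_mul, coeff_sub, coeff_C_mul, coeff_derivative, mem_LT_iff.1 (hG i) (l + 1) (by omega), zero_mul, mul_zero, sub_zero]
        rcases l with _ | l
        · simp
        · rw [coeff_X_mul, coeff_derivative, mem_LT_iff.1 (hG i) (l + 1) hl, zero_mul]
      · rw [← smul_eq_C_mul]; exact Submodule.smul_mem _ _ (hG i)
    · rw [LL_EI_mul]; rfl

lemma coeff_LL {o : ℕ} {P : k[X]} (hP : P.natDegree ≤ o) {t : ℕ} (ht : t + 1 = o + m) :
    (LL r a P).coeff t = ((o : k) - ∑ l, (a l : k)) * P.coeff o ∧ (LL r a P).natDegree ≤ t := by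
  have hM : (MM r a).natDegree ≤ m - 1 := natDegree_sum_le_of_forall_le _ _ fun j _ =>
    (natDegree_C_mul_le _ _).trans (by rw [natDegree_prod_of_monic _ _ fun l _ => monic_X_sub_C _]; simp)
  have hM' : (MM r a).coeff (m - 1) = ∑ l, (a l : k) := by
    rw [MM, finsetSum_coeff]
    refine sum_congr rfl fun j _ => ?_
    have hd : (∏ l ∈ univ.erase j, (X - C (r l))).natDegree = m - 1 := by
      rw [natDegree_prod_of_monic _ _ fun l _ => monic_X_sub_C _]; simp
    rw [coeff_C_mul, ← hd, coeff_natDegree, (monic_prod_of_monic _ _ fun l _ => monic_X_sub_C _).leadingCoeff, mul_one]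
  have hR' : (RR r).coeff m = 1 := by
    have := RR_monic r
    rw [Monic, leadingCoeff, RR_natDegree] at this
    exact this
  have hPd := (natDegree_derivative_le P).trans (Nat.sub_le_sub_right hP 1)
  have e1 : (derivative P * RR r).coeff t = (o : k) * P.coeff o ∧ (derivative P * RR r).natDegree ≤ t := by
    rcases o with _ | o
    · rw [eq_C_of_natDegree_eq_zero (Nat.le_zero.1 hP)]; simp
    · refine ⟨?_, natDegree_mul_le.trans (by rw [RR_natDegree]; omega)⟩
      rw [show t = o + m by omega, coeff_mul_add_eq_of_natDegree_le (by simpa using hPd) (RR_natDegree r).le,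
        hR', coeff_derivative]
      push_cast
      ring
  have e2 : (P * MM r a).coeff t = (∑ l, (a l : k)) * P.coeff o ∧ (P * MM r a).natDegree ≤ t := by
    rcases m with _ | m'
    · simp [MM]
    · refine ⟨?_, natDegree_mul_le.trans (by omega)⟩
      rw [show t = o + (m' + 1 - 1) by omega, coeff_mul_add_eq_of_natDegree_le hP hM, hM', mul_comm]
  rw [LL_apply]
  exact ⟨by rw [coeff_sub, e1.1, e2.1]; ring, (natDegree_sub_le _ _).trans (max_le e1.2 e2.2)⟩

/-- The kernel is the line of constants. -/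
theorem exists_of_LL_eq_zero : ∀ (o : ℕ) {P : k[X]}, P.natDegree ≤ o → LL r a P = 0 → ∃ c : k, P = C c * EE r a := by
  have hk : ∀ (o : ℕ) {P : k[X]}, P.natDegree ≤ o → LL r a P = 0 → P.coeff o ≠ 0 → o = ∑ l, a l := by
    intro o P hP h0 hne
    by_cases hom : o + m = 0
    · obtain ⟨rfl, rfl⟩ := Nat.add_eq_zero_iff.1 hom
      simp
    · have h := (coeff_LL r a hP (t := o + m - 1) (by omega)).1
      rw [h0, coeff_zero, eq_comm, mul_eq_zero, or_iff_left hne, sub_eq_zero] at h
      exact_mod_cast h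
  intro o P _ h0
  set A := ∑ l, a l
  have hEA : (EE r a).coeff A = 1 := by
    rw [show A = (EE r a).natDegree from (EE_natDegree r a).symm]
    exact (EE_monic r a).leadingCoeff
  refine ⟨P.coeff A, sub_eq_zero.1 ?_⟩
  by_contra hne
  set P1 := P - C (P.coeff A) * EE r a
  have h1 : LL r a P1 = 0 := by rw [map_sub, h0, ← smul_eq_C_mul, map_smul, LL_EE]; simp
  have hlead : P1.coeff P1.natDegree ≠ 0 := by simpa using leadingCoeff_ne_zero.2 hne
  have := hk _ le_rfl h1 hlead
  rw [this, coeff_sub, coeff_C_mul, hEA] at hlead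
  simp at hlead

lemma ker_LL {P : k[X]} (h : LL r a P = 0) : ∃ c : k, P = C c * EE r a :=
  exists_of_LL_eq_zero r a P.natDegree le_rfl h

lemma LL_sub (P : k[X]) (c : k) : LL r a (P - C c * EE r a) = LL r a P := by
  rw [map_sub, ← smul_eq_C_mul, map_smul, LL_EE]; simp

/-- Order at a puncture. -/
theorem dvd_LL_root (hr : Function.Injective r) (i : Fin m) :
    ∀ (n : ℕ) (P : k[X]), (X - C (r i)) ^ n ∣ LL r a P ↔ ∃ c : k, (X - C (r i)) ^ n ∣ P - C c * EE r a := by
  set Y := X - C (r i) with hY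
  set R0 := ∏ l ∈ univ.erase i, (X - C (r l)) with hR0
  obtain ⟨M0, hM0⟩ : ∃ M0, MM r a = C (a i : k) * R0 + Y * M0 := by
    rw [MM, ← add_sum_erase univ _ (mem_univ i)]
    obtain ⟨M0, h⟩ := Finset.dvd_sum (s := univ.erase i) (a := Y)
      (f := fun j => C (a j : k) * ∏ l ∈ univ.erase j, (X - C (r l))) fun j hj =>
      (dvd_prod_of_mem (fun l => X - C (r l)) (mem_erase.2 ⟨(mem_erase.1 hj).1.symm, mem_univ i⟩)).mul_left _
    exact ⟨M0, by rw [h]⟩
  have form : ∀ (n : ℕ) (F : k[X]), LL r a (Y ^ n * F) =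
      Y ^ n * ((C (n : k) - C (a i : k)) * R0 * F + Y * (derivative F * R0 - F * M0)) := by
    intro n F
    rw [LL_apply, derivative_mul, RR_eq r i, ← hY, ← hR0, hM0, derivative_X_sub_C_pow, ← hY]
    rcases n with _ | n
    · simp; ring
    · rw [Nat.add_sub_cancel]; ring
  intro n P
  constructor
  · induction n with
    | zero => exact fun _ => ⟨0, by simp⟩
    | succ n ih =>
      intro h
      obtain ⟨c, F, hF⟩ := ih ((pow_dvd_pow _ (Nat.le_succ n)).trans h)
      rw [← LL_sub r a P c, hF, form, pow_succ, mul_dvd_mul_iff_left (pow_ne_zero _ (X_sub_C_ne_zero _)),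
        dvd_add_left (dvd_mul_right _ _), hY, dvd_iff_isRoot] at h
      simp only [IsRoot, eval_mul, Polynomial.eval_sub, eval_C, mul_eq_zero, sub_eq_zero, Nat.cast_inj,
        (show R0.eval (r i) ≠ 0 from eval_erase_ne r hr i), or_false] at h
      rcases h with hn | hroot
      · subst hn
        have he : (EI r a i).eval (r i) ≠ 0 := by
          rw [EI, eval_prod]
          exact prod_ne_zero_iff.2 fun l hl => by
            rw [eval_pow]
            exact pow_ne_zero _ (by simpa [sub_eq_zero] using fun h => (mem_erase.1 hl).1 (hr h).symm)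
        refine ⟨c + F.eval (r i) / (EI r a i).eval (r i), ?_⟩
        rw [map_add, add_mul, sub_add_eq_sub_sub, hF, EE_eq r a i, ← hY,
          show Y ^ a i * F - C (F.eval (r i) / (EI r a i).eval (r i)) * (Y ^ a i * EI r a i) =
            Y ^ a i * (F - C (F.eval (r i) / (EI r a i).eval (r i)) * EI r a i) by ring, pow_succ]
        refine mul_dvd_mul_left _ (hY ▸ dvd_iff_isRoot.2 ?_)
        simp [IsRoot, div_mul_cancel₀ _ he]
      · exact ⟨c, by rw [hF, pow_succ]; exact mul_dvd_mul_left _ (hY ▸ dvd_iff_isRoot.2 hroot)⟩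
  · rintro ⟨c, F, hF⟩
    rw [← LL_sub r a P c, hF, form]
    exact dvd_mul_right _ _

/-- Order at an unmarked point. -/
theorem dvd_LL_other {q : k} (hq : ∀ j, q ≠ r j) :
    ∀ (n : ℕ) (P : k[X]), (X - C q) ^ n ∣ LL r a P ↔ ∃ c : k, (X - C q) ^ (n + 1) ∣ P - C c * EE r a := by
  set Y := X - C q with hY
  have form : ∀ (n : ℕ) (F : k[X]), LL r a (Y ^ (n + 1) * F) =
      Y ^ n * (C ((n : k) + 1) * RR r * F + Y * (derivative F * RR r - F * MM r a)) := by
    intro n F
    rw [LL_apply, derivative_mul, derivative_X_sub_C_pow, Nat.add_sub_cancel, ← hY]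
    push_cast
    ring
  have hE : (EE r a).eval q ≠ 0 := by
    rw [EE, eval_prod]
    exact prod_ne_zero_iff.2 fun l _ => by rw [eval_pow]; exact pow_ne_zero _ (by simpa [sub_eq_zero] using hq l)
  intro n P
  constructor
  · induction n with
    | zero =>
      intro _
      refine ⟨P.eval q / (EE r a).eval q, ?_⟩
      rw [zero_add, pow_one, hY, dvd_iff_isRoot]
      simp [div_mul_cancel₀ _ hE]
    | succ n ih =>
      intro h
      obtain ⟨c, F, hF⟩ := ih ((pow_dvd_pow _ (Nat.le_succ n)).trans h)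
      refine ⟨c, ?_⟩
      rw [← LL_sub r a P c, hF, form, pow_succ, mul_dvd_mul_iff_left (pow_ne_zero _ (X_sub_C_ne_zero _)),
        dvd_add_left (dvd_mul_right _ _), hY, dvd_iff_isRoot] at h
      rw [hF, pow_succ _ (n + 1)]
      refine mul_dvd_mul_left _ (hY ▸ dvd_iff_isRoot.2 ?_)
      have hn : (n : k) + 1 ≠ 0 := Nat.cast_add_one_ne_zero n
      simpa [IsRoot, hn, eval_RR_ne r hq] using h
  · rintro ⟨c, F, hF⟩
    rw [← LL_sub r a P c, hF, form]
    exact dvd_mul_right _ _

/-- Order at infinity. -/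
theorem LL_mem_LT (n : ℕ) {P : k[X]} (hP : P ∈ Prim (k := k) a b) :
    LL r a P ∈ degreeLT k ((∑ l, a l) + b + m - n) ↔
      ∃ c : k, P - C c * EE r a ∈ degreeLT k ((∑ l, a l) + b + 1 - n) := by
  set A := ∑ l, a l with hA
  constructor
  · induction n with
    | zero => exact fun _ => ⟨0, by simpa using hP⟩
    | succ n ih =>
      intro h
      obtain ⟨c, hc⟩ := ih (mem_LT_iff.2 fun l hl => mem_LT_iff.1 h l (by omega))
      rcases Nat.lt_or_ge (A + b) n with hn | hn
      · exact ⟨c, mem_LT_iff.2 fun l hl => mem_LT_iff.1 hc l (by omega)⟩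
      set o := A + b - n with ho
      set P1 := P - C c * EE r a
      have hdeg : P1.natDegree ≤ o := natDegree_le_iff_coeff_eq_zero.2 fun l hl => mem_LT_iff.1 hc l (by omega)
      have hor : o = A ∨ P1.coeff o = 0 := by
        by_cases hom : o + m = 0
        · obtain ⟨ho0, hm0⟩ := Nat.add_eq_zero_iff.1 hom
          subst hm0
          exact Or.inl (by rw [hA, ho0]; simp)
        · have h1 := (coeff_LL r a hdeg (t := o + m - 1) (by omega)).1
          rw [LL_sub, mem_LT_iff.1 h (o + m - 1) (by omega), eq_comm, mul_eq_zero, sub_eq_zero] at h1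
          exact h1.imp_left fun e => by exact_mod_cast e
      rcases hor with hoA | h0
      · refine ⟨c + P1.coeff o, mem_LT_iff.2 fun l hl => ?_⟩
        rw [map_add, add_mul, sub_add_eq_sub_sub, coeff_sub, coeff_C_mul]
        rcases eq_or_lt_of_le (show o ≤ l by omega) with rfl | hl'
        · rw [hoA, show A = (EE r a).natDegree from (EE_natDegree r a).symm, coeff_natDegree, (EE_monic r a).leadingCoeff, mul_one, sub_self]
        · rw [mem_LT_iff.1 hc l (by omega), coeff_eq_zero_of_natDegree_lt (p := EE r a) (by rw [EE_natDegree]; omega), mul_zero, sub_zero]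
      · refine ⟨c, mem_LT_iff.2 fun l hl => ?_⟩
        rcases eq_or_lt_of_le (show o ≤ l by omega) with rfl | hl'
        · exact h0
        · exact mem_LT_iff.1 hc l (by omega)
  · rintro ⟨c, hc⟩
    rw [← LL_sub r a P c]
    set P1 := P - C c * EE r a
    rcases Nat.lt_or_ge (A + b) n with hn | hn
    · have : P1 = 0 := Polynomial.ext fun l => by rw [mem_LT_iff.1 hc l (by omega), coeff_zero]
      rw [this, map_zero]; exact Submodule.zero_mem _
    have hdeg : P1.natDegree ≤ A + b - n := natDegree_le_iff_coeff_eq_zero.2 fun l hl => mem_LT_iff.1 hc l (by omega)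
    by_cases hom : A + b - n + m = 0
    · obtain ⟨ho0, hm0⟩ := Nat.add_eq_zero_iff.1 hom
      subst hm0
      rw [ho0] at hdeg
      have : LL r a P1 = 0 := by
        rw [LL_apply, eq_C_of_natDegree_eq_zero (Nat.le_zero.1 hdeg)]; simp [MM]
      rw [this]; exact Submodule.zero_mem _
    · have h1 := (coeff_LL r a hdeg (t := A + b - n + m - 1) (by omega)).2
      exact mem_LT_iff.2 fun l hl => coeff_eq_zero_of_natDegree_lt (by omega)

end Groth.Agent.Lib.Wronsk
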