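import Mathlib.Algebra.Polynomial.FieldDivision
import Mathlib.Algebra.Polynomial.Coeff
import Mathlib.Algebra.CharZero.Infinite
import Mathlib.Data.Nat.Choose.Basic
import Mathlib.Tactic.LinearCombination

/-!
# Hypergeometric polynomials and products of powers of linear forms
-/

noncomputable section

namespace Groth.Agent.Lib.Wronsk

open Polynomial Finset

variable {k : Type*} [Field k] [CharZero k]

/-- The coefficient of `X^n` in `(1+X)^i (1+WX)^j`, as a polynomial in `W`. -/
def hyp (k : Type*) [Field k] (i j n : ℕ) : k[X] :=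
  ∑ m ∈ range (n + 1), C ((i.choose (n - m) * j.choose m : ℕ) : k) * X ^ m

lemma coeff_hyp (i j n m : ℕ) :
    (hyp k i j n).coeff m = if m ≤ n then ((i.choose (n - m) * j.choose m : ℕ) : k) else 0 := by
  rw [hyp, finsetSum_coeff]
  simp only [coeff_C_mul_X_pow, sum_ite_eq, mem_range, Nat.lt_succ_iff]

lemma hyp_eq_reflect (i j n : ℕ) :
    ∑ l ∈ range (n + 1), C (((i.choose l) * (j.choose (n - l)) : ℕ) : k) * X ^ (n - l) = hyp k i j n := by
  rw [hyp, ← sum_range_reflect _ (n + 1)]
  refine sum_congr rfl fun m hm => ?_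
  rw [mem_range] at hm
  rw [show n + 1 - 1 - m = n - m by omega, show n - (n - m) = m by omega]

/-- The hypergeometric differential equation. -/
lemma hyp_ode (i j n : ℕ) :
    X * (1 - X) * derivative (derivative (hyp k i j n)) +
      (C ((i : k) - n + 1) - C (1 - (n : k) - j) * X) * derivative (hyp k i j n) -
      C ((n : k) * j) * hyp k i j n = 0 := by
  set u : ℕ → k := fun m => (hyp k i j n).coeff m
  have hu : ∀ m : ℕ, ((m : k) + 1) * ((m : k) + 1 + i - n) * u (m + 1) = ((m : k) - n) * ((m : k) - j) * u m := by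
    intro m
    simp only [u, coeff_hyp]
    rcases lt_trichotomy m n with h | rfl | h
    · rw [if_pos (by omega), if_pos h.le]
      obtain ⟨r, rfl⟩ : ∃ r, n = m + 1 + r := ⟨n - m - 1, by omega⟩
      rw [show m + 1 + r - (m + 1) = r by omega, show m + 1 + r - m = r + 1 by omega]
      have h1 : ((m : k) + 1) * (j.choose (m + 1) : k) = ((j : k) - m) * (j.choose m : k) := by
        rcases Nat.lt_or_ge j m with hj | hj
        · simp [Nat.choose_eq_zero_of_lt hj, Nat.choose_eq_zero_of_lt (hj.trans (Nat.lt_succ_self m))]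
        · have := congrArg (fun t : ℕ => (t : k)) (Nat.choose_succ_right_eq j m)
          push_cast [Nat.cast_sub hj] at this
          linear_combination this
      have h2 : ((r : k) + 1) * (i.choose (r + 1) : k) = ((i : k) - r) * (i.choose r : k) := by
        rcases Nat.lt_or_ge i r with hj | hj
        · simp [Nat.choose_eq_zero_of_lt hj, Nat.choose_eq_zero_of_lt (hj.trans (Nat.lt_succ_self r))]
        · have := congrArg (fun t : ℕ => (t : k)) (Nat.choose_succ_right_eq i r)
          push_cast [Nat.cast_sub hj] at this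
          linear_combination this
      push_cast
      linear_combination ((i : k) - r) * (i.choose r : k) * h1 - ((j : k) - m) * (j.choose m : k) * h2
    · rw [if_neg (by omega)]
      simp
    · rw [if_neg (by omega), if_neg (by omega)]
      simp
  ext m
  have key : ∀ (p : k[X]) (a b c : k), (X * (1 - X) * derivative (derivative p) + (C a - C b * X) * derivative p -
      C c * p).coeff m =
      ((m : k) + 1) * ((m : k) + a) * p.coeff (m + 1) - ((m : k) * ((m : k) - 1) + b * m + c) * p.coeff m := by
    intro p a b c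
    rw [show X * (1 - X) * derivative (derivative p) + (C a - C b * X) * derivative p - C c * p =
      X * derivative (derivative p) - X * (X * derivative (derivative p)) + C a * derivative p -
        C b * (X * derivative p) - C c * p by ring]
    rcases m with _ | _ | m <;>
      simp only [coeff_sub, coeff_add, coeff_C_mul, coeff_X_mul, coeff_X_mul_zero, coeff_derivative] <;>
      push_cast <;> ring
  rw [key, coeff_zero]
  linear_combination hu m

/-- No multiple roots away from the singular points. -/
theorem rootMultiplicity_hyp_le (i j n : ℕ) (c : k) (hc0 : c ≠ 0) (hc1 : c ≠ 1) :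
    rootMultiplicity c (hyp k i j n) ≤ 1 := by
  by_contra hlt
  rw [not_le] at hlt
  set h := hyp k i j n
  set μ := rootMultiplicity c h
  have hne : h ≠ 0 := fun h0 => by simp [μ, h0] at hlt
  have hr : h.IsRoot c := (rootMultiplicity_pos hne).1 (by omega)
  have h1 : rootMultiplicity c (derivative h) = μ - 1 := derivative_rootMultiplicity_of_root hr
  have hne1 : derivative h ≠ 0 := fun h0 => by simp [h0] at h1; omega
  have hr1 : (derivative h).IsRoot c := (rootMultiplicity_pos hne1).1 (by omega)
  have h2 : rootMultiplicity c (derivative (derivative h)) = μ - 2 := by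
    rw [derivative_rootMultiplicity_of_root hr1, h1]; omega
  have hd0 : (X - C c) ^ (μ - 1) ∣ h := (pow_dvd_pow _ (Nat.sub_le μ 1)).trans (pow_rootMultiplicity_dvd h c)
  have hd1 : (X - C c) ^ (μ - 1) ∣ derivative h := h1 ▸ pow_rootMultiplicity_dvd _ c
  have hd2 : (X - C c) ^ (μ - 1) ∣ X * (1 - X) * derivative (derivative h) := by
    have e : X * (1 - X) * derivative (derivative h) =
        C ((n : k) * j) * h - (C ((i : k) - n + 1) - C (1 - (n : k) - j) * X) * derivative h := by
      linear_combination hyp_ode (k := k) i j n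
    rw [e]
    exact dvd_sub (hd0.mul_left _) (hd1.mul_left _)
  have hcop : IsCoprime ((X - C c) ^ (μ - 1)) (X * (1 - X) : k[X]) := by
    refine IsCoprime.pow_left (((irreducible_X_sub_C c).coprime_iff_not_dvd).2 ?_)
    rw [dvd_iff_isRoot]
    simpa [sub_eq_zero, hc0] using fun hh : (1 : k) = c => hc1 hh.symm
  have hd : (X - C c) ^ (μ - 1) ∣ derivative (derivative h) := hcop.dvd_of_dvd_mul_left hd2
  have hne2 : derivative (derivative h) ≠ 0 := fun h0 => by
    have h3 : (derivative h).natDegree = 0 := natDegree_eq_zero_of_derivative_eq_zero h0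
    obtain ⟨a, ha⟩ := natDegree_eq_zero.1 h3
    rw [← ha, IsRoot, eval_C] at hr1
    exact hne1 (by rw [← ha, hr1, map_zero])
  have := (le_rootMultiplicity_iff hne2).2 hd
  omega

lemma hyp_succ (i j n : ℕ) : hyp k i (j + 1) (n + 1) = hyp k i j (n + 1) + X * hyp k i j n := by
  ext m
  rcases m with _ | m
  · simp [coeff_hyp]
  · rw [coeff_add, coeff_X_mul, coeff_hyp, coeff_hyp, coeff_hyp]
    by_cases h : m ≤ n
    · rw [if_pos (by omega), if_pos (by omega), if_pos h, Nat.choose_succ_succ, show n + 1 - (m + 1) = n - m by omega]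
      push_cast
      ring
    · rw [if_neg (by omega), if_neg (by omega), if_neg h, add_zero]

lemma derivative_hyp_succ (i j n : ℕ) : derivative (hyp k i (j + 1) (n + 1)) = C ((j : k) + 1) * hyp k i j n := by
  ext m
  rw [coeff_derivative, coeff_C_mul, coeff_hyp, coeff_hyp]
  by_cases h : m ≤ n
  · rw [if_pos (by omega), if_pos h, show n + 1 - (m + 1) = n - m by omega]
    have := congrArg (fun t : ℕ => (t : k)) (Nat.add_one_mul_choose_eq j m)
    push_cast at this ⊢
    linear_combination (-(i.choose (n - m) : k)) * this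
  · rw [if_neg (by omega), if_neg h]
    simp

lemma eval_hyp (i : ℕ) (w : k) : ∀ j n : ℕ, (hyp k i j n).eval w = ((1 + X) ^ i * (1 + C w * X) ^ j).coeff n := by
  intro j
  induction j with
  | zero =>
    intro n
    rw [pow_zero, mul_one, coeff_one_add_X_pow]
    have : hyp k i 0 n = C (i.choose n : k) := by
      ext m
      rw [coeff_hyp, coeff_C]
      rcases m with _ | m <;> simp
    rw [this, eval_C]
  | succ j ih =>
    intro n
    rw [show (1 + X) ^ i * (1 + C w * X) ^ (j + 1) =
      (1 + X) ^ i * (1 + C w * X) ^ j + C w * (X * ((1 + X) ^ i * (1 + C w * X) ^ j)) by ring,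
      coeff_add, coeff_C_mul]
    rcases n with _ | n
    · rw [coeff_X_mul_zero, mul_zero, add_zero, ← ih 0]
      have : hyp k i (j + 1) 0 = hyp k i j 0 := by
        ext m
        rw [coeff_hyp, coeff_hyp]
        rcases m with _ | m <;> simp
      rw [this]
    · rw [coeff_X_mul, ← ih, ← ih, hyp_succ]
      simp

/-- Two adjacent coefficients of `(1+X)^i (1+wX)^j` do not both vanish. -/
theorem not_adjacent_zero (i j n : ℕ) (hn : n ≤ i + j) (w : k) (hw : w ≠ 0) :
    ¬(((1 + X) ^ i * (1 + C w * X) ^ j).coeff n = 0 ∧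
      ((1 + X) ^ i * (1 + C w * X) ^ j).coeff (n + 1) = 0) := by
  rintro ⟨h0, h1⟩
  by_cases hw1 : w = 1
  · subst hw1
    rw [map_one, one_mul, ← pow_add, coeff_one_add_X_pow] at h0
    exact (Nat.choose_pos hn).ne' (by exact_mod_cast h0)
  rw [← eval_hyp] at h0 h1
  have hroot : (hyp k i (j + 1) (n + 1)).IsRoot w := by
    simp [hyp_succ, h0, h1]
  have hroot' : (derivative (hyp k i (j + 1) (n + 1))).IsRoot w := by
    simp [derivative_hyp_succ, h0]
  have hne : hyp k i (j + 1) (n + 1) ≠ 0 := fun h => by
    have := congrArg (fun p => p.coeff (n + 1 - i)) h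
    simp only [coeff_hyp, coeff_zero, if_pos (Nat.sub_le _ _), Nat.cast_eq_zero, mul_eq_zero,
      Nat.choose_eq_zero_iff] at this
    omega
  have h2 : 1 < rootMultiplicity w (hyp k i (j + 1) (n + 1)) :=
    (one_lt_rootMultiplicity_iff_isRoot hne).2 ⟨hroot, hroot'⟩
  have := rootMultiplicity_hyp_le (k := k) i (j + 1) (n + 1) w hw hw1
  omega

/-- Two adjacent coefficients of a product of powers of two linear forms do not both vanish. -/
theorem not_adjacent_zero' (i j n : ℕ) (hn : n ≤ i + j) (α β γ δ : k) (hα : α ≠ 0) (hβ : β ≠ 0) (hγ : γ ≠ 0)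
    (hδ : δ ≠ 0) :
    ¬(((C α * X + C β) ^ i * (C γ * X + C δ) ^ j).coeff n = 0 ∧
      ((C α * X + C β) ^ i * (C γ * X + C δ) ^ j).coeff (n + 1) = 0) := by
  have hu : α / β ≠ 0 := div_ne_zero hα hβ
  have hcomp : (C α * X + C β) ^ i * (C γ * X + C δ) ^ j =
      C (β ^ i * δ ^ j) * (((1 + X) ^ i * (1 + C (γ / δ / (α / β)) * X) ^ j).comp (C (α / β) * X)) := by
    simp only [mul_comp, pow_comp, add_comp, one_comp, X_comp, C_comp, ← mul_assoc (C (γ / δ / (α / β))), ← map_mul,
      div_mul_cancel₀ _ hu]
    rw [map_mul, map_pow, map_pow, mul_mul_mul_comm, ← mul_pow, ← mul_pow, mul_add, mul_add, mul_one, mul_one,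
      ← mul_assoc, ← mul_assoc, ← map_mul, ← map_mul, mul_div_cancel₀ _ hβ, mul_div_cancel₀ _ hδ]
    ring
  rintro ⟨h0, h1⟩
  rw [hcomp, coeff_C_mul, comp_C_mul_X_coeff, mul_eq_zero, or_iff_right (mul_ne_zero (pow_ne_zero _ hβ) (pow_ne_zero _ hδ)),
    mul_eq_zero, or_iff_left (pow_ne_zero _ hu)] at h0 h1
  exact not_adjacent_zero i j n hn _ (div_ne_zero (div_ne_zero hγ hδ) hu) ⟨h0, h1⟩

end Groth.Agent.Lib.Wronsk
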