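import Groth.Agent.Lib.Wronsk.Hyp
import Mathlib.RingTheory.Polynomial.Basic
import Mathlib.RingTheory.Ideal.Span
import Mathlib.LinearAlgebra.Dimension.Finite
import Mathlib.LinearAlgebra.FiniteDimensional.Lemmas

/-!
# The linear system on the line with three marked points
-/

noncomputable section

namespace Groth.Agent.Lib.Wronsk

open Polynomial Finset

variable {k : Type*} [Field k] [CharZero k]

/-- The homogeneous substitution `X = T/(T-1)`. -/
def sub (N : ℕ) (h : k[X]) : k[X] := ∑ l ∈ range (N + 1), C (h.coeff l) * X ^ l * (X - 1) ^ (N - l)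

lemma eval_sub {N : ℕ} {h : k[X]} (hh : h.natDegree ≤ N) {t : k} (ht : t ≠ 1) :
    (sub N h).eval t = (t - 1) ^ N * h.eval (t / (t - 1)) := by
  have ht' : t - 1 ≠ 0 := sub_ne_zero.2 ht
  rw [eval_eq_sum_range' (Nat.lt_succ_of_le hh), sub, eval_finsetSum, mul_sum]
  refine sum_congr rfl fun l hl => ?_
  rw [mem_range] at hl
  rw [eval_mul, eval_mul, eval_C, eval_pow, eval_X, eval_pow, Polynomial.eval_sub, eval_X, eval_one, div_pow,
    ← pow_sub_mul_pow (t - 1) (show l ≤ N by omega)]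
  field_simp

lemma eq_of_eval {P Q : k[X]} (h : ∀ t : k, t ≠ 1 → P.eval t = Q.eval t) : P = Q :=
  eq_of_infinite_eval_eq P Q ((Set.finite_singleton (1 : k)).infinite_compl.mono fun t ht => h t ht)

variable {a b : ℕ} (ha : 0 < a) (hb : 0 < b)

/-- The linear system. -/
def sys (k : Type*) [Field k] (a b : ℕ) : Submodule k k[X] :=
  ((Ideal.span {(X : k[X]) ^ (a + 1)}).restrictScalars k ⊓ degreeLE k ↑(a + b)) ⊔
    ((Ideal.span {((X : k[X]) - 1) ^ (b + 1)}).restrictScalars k ⊓ degreeLE k ↑(a + b)) ⊔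
    Submodule.span k {(X : k[X]) ^ (a + 1) * (X - 1) ^ (b + 1)}

include ha hb in
/-- Members of the system after substitution. -/
theorem mem_sys {h : k[X]} (hh : h ∈ sys k a b) :
    h.natDegree ≤ a + b + 2 ∧ ∃ (lam : k) (F : k[X]),
      F.coeff a = 0 ∧ sub (a + b + 2) h = C lam * X ^ (a + 1) + (X - 1) ^ 2 * F := by
  rw [sys, Submodule.mem_sup] at hh
  obtain ⟨h12, hh12, h3, hh3, rfl⟩ := hh
  obtain ⟨h1, hh1, h2, hh2, rfl⟩ := Submodule.mem_sup.1 hh12
  obtain ⟨lam, rfl⟩ := Submodule.mem_span_singleton.1 hh3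
  obtain ⟨hh1, hd1⟩ := hh1
  obtain ⟨hh2, hd2⟩ := hh2
  obtain ⟨F1, rfl⟩ := Ideal.mem_span_singleton.1 hh1
  obtain ⟨F2, rfl⟩ := Ideal.mem_span_singleton.1 hh2
  rw [SetLike.mem_coe, mem_degreeLE, ← natDegree_le_iff_degree_le] at hd1 hd2
  have hX1 : ((X : k[X]) - 1).natDegree = 1 := by simpa using natDegree_X_sub_C (1 : k)
  have hF1 : F1.natDegree ≤ b - 1 := by
    rcases eq_or_ne F1 0 with rfl | h0
    · simp
    · rw [natDegree_mul (pow_ne_zero _ X_ne_zero) h0, natDegree_X_pow] at hd1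
      omega
  have hF2 : F2.natDegree ≤ a - 1 := by
    rcases eq_or_ne F2 0 with rfl | h0
    · simp
    · have hne : (X : k[X]) - 1 ≠ 0 := fun h => by simp [h] at hX1
      rw [natDegree_mul (pow_ne_zero _ hne) h0, natDegree_pow, hX1] at hd2
      omega
  have hd3 : (lam • ((X : k[X]) ^ (a + 1) * (X - 1) ^ (b + 1))).natDegree ≤ a + b + 2 := by
    refine (natDegree_smul_le _ _).trans (natDegree_mul_le.trans ?_)
    have h' := natDegree_pow_le (p := (X : k[X]) - 1) (n := b + 1)
    rw [hX1] at h'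
    rw [natDegree_X_pow]
    omega
  have hdeg : (X ^ (a + 1) * F1 + (X - 1) ^ (b + 1) * F2 +
      lam • ((X : k[X]) ^ (a + 1) * (X - 1) ^ (b + 1))).natDegree ≤ a + b + 2 :=
    natDegree_add_le_of_degree_le (natDegree_add_le_of_degree_le (by omega) (by omega)) hd3
  refine ⟨hdeg, lam, X ^ (a + 1) * sub (b - 1) F1 + sub (a - 1) F2, ?_, eq_of_eval fun t ht => ?_⟩
  · have h2 : (sub (a - 1) F2).natDegree ≤ a - 1 := by
      refine natDegree_sum_le_of_forall_le _ _ fun l hl => ?_
      rw [mem_range] at hl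
      refine natDegree_mul_le.trans ?_
      have h' := natDegree_pow_le (p := (X : k[X]) - 1) (n := a - 1 - l)
      rw [hX1] at h'
      have h'' := natDegree_C_mul_X_pow_le (F2.coeff l) l
      omega
    rw [coeff_add, coeff_X_pow_mul', if_neg (by omega), coeff_eq_zero_of_natDegree_lt (by omega), add_zero]
  · have ht' : t - 1 ≠ 0 := sub_ne_zero.2 ht
    rw [eval_sub hdeg ht]
    simp only [eval_add, eval_mul, eval_pow, eval_X, Polynomial.eval_sub, eval_one, eval_C, eval_smul, smul_eq_mul,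
      eval_sub hF1 ht, eval_sub hF2 ht]
    rw [show t / (t - 1) - 1 = 1 / (t - 1) by field_simp; ring]
    obtain ⟨a', rfl⟩ : ∃ a', a = a' + 1 := ⟨a - 1, by omega⟩
    obtain ⟨b', rfl⟩ : ∃ b', b = b' + 1 := ⟨b - 1, by omega⟩
    simp only [Nat.add_sub_cancel, div_pow, one_pow, pow_add, pow_one]
    field_simp
    ring

/-- The linear form attached to a point. -/
def lf (p : k) : k[X] := C (1 - p) * X + C p

lemma sub_pair {i j : ℕ} (p q : k) {N : ℕ} (hN : i + j = N) :
    sub N ((X - C p) ^ i * (X - C q) ^ j) = lf p ^ i * lf q ^ j := by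
  refine eq_of_eval fun t ht => ?_
  have ht' : t - 1 ≠ 0 := sub_ne_zero.2 ht
  rw [eval_sub (by simp [natDegree_mul (pow_ne_zero _ (X_sub_C_ne_zero p)) (pow_ne_zero _ (X_sub_C_ne_zero q)), hN]) ht]
  simp only [lf, eval_mul, eval_pow, eval_add, eval_X, eval_C, Polynomial.eval_sub]
  rw [← hN, pow_add, mul_mul_mul_comm, ← mul_pow, ← mul_pow]
  congr 2 <;> (field_simp; ring)

include ha hb in
/-- The twisted leading coefficient of `(X-p)^{i-1}(X-q)^{j-1}` vanishes. -/
theorem coeff_G_eq_zero {i j : ℕ} (hi : 0 < i) (hj' : 0 < j) (hj : i + j = a + b + 2) (p q : k)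
    (h2 : 2 ≤ Module.finrank k ↥(sys k a b ⊓ (Ideal.span {(X - C p) ^ (i - 1) * (X - C q) ^ (j - 1)}).restrictScalars k)) :
    (lf p ^ (i - 1) * lf q ^ (j - 1)).coeff a = 0 := by
  set g := (X - C p) ^ (i - 1) * (X - C q) ^ (j - 1) with hg
  set W := sys k a b ⊓ (Ideal.span {g}).restrictScalars k
  have hgm : g.Monic := ((monic_X_sub_C p).pow _).mul ((monic_X_sub_C q).pow _)
  have hgd : g.natDegree = a + b := by
    rw [hg, natDegree_mul (pow_ne_zero _ (X_sub_C_ne_zero p)) (pow_ne_zero _ (X_sub_C_ne_zero q))]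
    simp
    omega
  obtain ⟨e, he, hene, he2⟩ : ∃ e ∈ W, e ≠ 0 ∧ e.coeff (a + b + 2) = 0 := by
    by_contra hcon
    push Not at hcon
    have hinj : Function.Injective ((lcoeff k (a + b + 2)).comp W.subtype) := by
      refine (injective_iff_map_eq_zero _).2 fun e h => Subtype.ext ?_
      by_contra hne
      exact hcon e.1 e.2 hne h
    have := LinearMap.finrank_le_finrank_of_injective hinj
    rw [Module.finrank_self] at this
    omega
  obtain ⟨heV, hes⟩ := he
  obtain ⟨s, rfl⟩ := Ideal.mem_span_singleton.1 hes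
  obtain ⟨hdeg, lam, F, hF, hsub⟩ := mem_sys ha hb heV
  have hs0 : s ≠ 0 := fun h => hene (by rw [h, mul_zero])
  have hs : s.natDegree ≤ 1 := by
    have h' := hgm.natDegree_mul' hs0
    by_contra hlt
    have h2' : (g * s).natDegree = a + b + 2 := by omega
    rw [← h2', coeff_natDegree, leadingCoeff_eq_zero] at he2
    exact hene he2
  obtain ⟨s1, s0, rfl⟩ := exists_eq_X_add_C_of_natDegree_le_one hs
  set G := lf p ^ (i - 1) * lf q ^ (j - 1)
  have hident : sub (a + b + 2) (g * (C s1 * X + C s0)) =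
      G * ((X - 1) * (C s1 * X + C s0 * (X - 1))) := by
    refine eq_of_eval fun t ht => ?_
    have ht' : t - 1 ≠ 0 := sub_ne_zero.2 ht
    rw [eval_sub hdeg ht]
    simp only [G, ← sub_pair p q (show i - 1 + (j - 1) = a + b by omega), ← hg, eval_mul, eval_sub hgd.le ht,
      eval_add, eval_C, eval_X, Polynomial.eval_sub, eval_one]
    field_simp
    ring
  rw [hident] at hsub
  have hG1 : G.eval 1 = 1 := by simp [G, lf]
  have hlam : lam = 0 := by
    have := congrArg (fun P : k[X] => P.eval 1) hsub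
    simpa using this.symm
  rw [hlam, map_zero, zero_mul, zero_add, show G * ((X - 1) * (C s1 * X + C s0 * (X - 1))) =
    (X - 1) * (G * (C s1 * X + C s0 * (X - 1))) by ring,
    show ((X : k[X]) - 1) ^ 2 * F = (X - 1) * ((X - 1) * F) by ring] at hsub
  have h' := mul_left_cancel₀ (show (X : k[X]) - 1 ≠ 0 by simpa using X_sub_C_ne_zero (1 : k)) hsub
  have hs1 : s1 = 0 := by
    have := congrArg (fun P : k[X] => P.eval 1) h'
    simpa [hG1] using this
  rw [hs1, map_zero, zero_mul, zero_add, show G * (C s0 * (X - 1)) = (X - 1) * (G * C s0) by ring] at h'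
  have h'' := mul_left_cancel₀ (show (X : k[X]) - 1 ≠ 0 by simpa using X_sub_C_ne_zero (1 : k)) h'
  have hs0' : s0 ≠ 0 := fun h => hs0 (by rw [hs1, h]; simp)
  rw [← h'', coeff_mul_C, mul_eq_zero, or_iff_left hs0'] at hF
  exact hF

include ha hb in
/-- The condition that `(X-p)^i(X-q)^j` is a member. -/
theorem exists_of_pair {i j : ℕ} (hj : i + j = a + b + 2) (p q : k)
    (h1 : 1 ≤ Module.finrank k ↥(sys k a b ⊓ (Ideal.span {(X - C p) ^ i * (X - C q) ^ j}).restrictScalars k)) :
    ∃ F : k[X], F.coeff a = 0 ∧ lf p ^ i * lf q ^ j = X ^ (a + 1) + (X - 1) ^ 2 * F ∧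
      (i : k) * (1 - p) + (j : k) * (1 - q) = (a : k) + 1 := by
  set g := (X - C p) ^ i * (X - C q) ^ j with hg
  set W := sys k a b ⊓ (Ideal.span {g}).restrictScalars k
  have hne : W ≠ ⊥ := fun h => by rw [h, finrank_bot] at h1; omega
  obtain ⟨e, ⟨heV, hes⟩, hene⟩ := Submodule.exists_mem_ne_zero_of_ne_bot hne
  obtain ⟨s, rfl⟩ := Ideal.mem_span_singleton.1 hes
  obtain ⟨hdeg, lam, F, hF, hsub⟩ := mem_sys ha hb heV
  have hgm : g.Monic := ((monic_X_sub_C p).pow _).mul ((monic_X_sub_C q).pow _)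
  have hgd : g.natDegree = a + b + 2 := by
    rw [hg, natDegree_mul (pow_ne_zero _ (X_sub_C_ne_zero p)) (pow_ne_zero _ (X_sub_C_ne_zero q))]
    simp [hj]
  have hs0 : s ≠ 0 := fun h => hene (by rw [h, mul_zero])
  rw [hgm.natDegree_mul' hs0, hgd] at hdeg
  obtain ⟨c, rfl⟩ := natDegree_eq_zero.1 (show s.natDegree = 0 by omega)
  have hc : c ≠ 0 := fun h => hs0 (by rw [h, map_zero])
  have hident : sub (a + b + 2) (g * C c) = lf p ^ i * lf q ^ j * C c := by
    refine eq_of_eval fun t ht => ?_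
    rw [eval_sub (by rw [natDegree_mul_C hc, hgd]) ht]
    simp only [← sub_pair p q hj, ← hg, eval_mul, eval_sub hgd.le ht, eval_C]
    ring
  rw [hident] at hsub
  have hlam : lam = c := by
    have := congrArg (fun P : k[X] => P.eval 1) hsub
    simpa [lf] using this.symm
  rw [hlam] at hsub
  have hmain : lf p ^ i * lf q ^ j = X ^ (a + 1) + (X - 1) ^ 2 * (C c⁻¹ * F) := by
    refine mul_right_cancel₀ (C_ne_zero.2 hc) ?_
    rw [hsub, add_mul, mul_assoc ((X - 1) ^ 2), mul_comm (C c⁻¹) F, mul_assoc F, ← map_mul,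
      inv_mul_cancel₀ hc, map_one, mul_one]
    ring
  refine ⟨C c⁻¹ * F, by rw [coeff_C_mul, hF, mul_zero], hmain, ?_⟩
  have := congrArg (fun P : k[X] => (derivative P).eval 1) hmain
  simpa [lf, derivative_mul, derivative_pow] using this

include ha hb in
/-- No two further points with the two dimension conditions. -/
theorem no_pair {i j : ℕ} (hi : 0 < i) (hiab : i ≤ a + b) (hj : i + j = a + b + 2) (p q : k)
    (hp0 : p ≠ 0) (hp1 : p ≠ 1) (hq0 : q ≠ 0) (hq1 : q ≠ 1)
    (h1 : 1 ≤ Module.finrank k ↥(sys k a b ⊓ (Ideal.span {(X - C p) ^ i * (X - C q) ^ j}).restrictScalars k))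
    (h2 : 2 ≤ Module.finrank k ↥(sys k a b ⊓ (Ideal.span {(X - C p) ^ (i - 1) * (X - C q) ^ (j - 1)}).restrictScalars k)) :
    False := by
  have hg := coeff_G_eq_zero ha hb hi (by omega) hj p q h2
  obtain ⟨F, hF, hH, hrel⟩ := exists_of_pair ha hb hj p q h1
  obtain ⟨i', rfl⟩ : ∃ i', i = i' + 1 := ⟨i - 1, by omega⟩
  obtain ⟨j', rfl⟩ : ∃ j', j = j' + 1 := ⟨j - 1, by omega⟩
  simp only [Nat.add_sub_cancel] at hg
  set A := lf p with hA
  set B := lf q with hB
  set G := A ^ i' * B ^ j'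
  set al := 1 - p with hal
  set be := 1 - q with hbe
  set κ : k := ((i' : k) + (j' : k) + 1 - a) * al * be
  -- differentiate `A^i B^j / X^(a+1)`
  have hH' : A * B * G = X ^ (a + 1) + (X - 1) ^ 2 * F := by rw [← hH]; ring
  have hd := congrArg derivative hH'
  have hDG : derivative (A * B * G) =
      (C (((i' : k) + 1) * al) * B + C (((j' : k) + 1) * be) * A) * G := by
    have eA : derivative A = C al := by simp [hA, hal, lf]
    have eB : derivative B = C be := by simp [hB, hbe, lf]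
    rw [show A * B * G = A ^ (i' + 1) * B ^ (j' + 1) by ring]
    simp only [derivative_mul, derivative_pow, eA, eB, Nat.add_sub_cancel, map_mul, G]
    push_cast
    ring
  have hkey : (C κ * X + C (((a : k) + 1) * p * q)) * G =
      C 2 * (X * F) + (X * (X * derivative F) - X * derivative F) -
        C ((a : k) + 1) * (X * F) + C ((a : k) + 1) * F := by
    have hJ : (C (((i' : k) + 1) * al) * B + C (((j' : k) + 1) * be) * A) * X - C ((a : k) + 1) * (A * B) =
        (X - 1) * (C κ * X + C (((a : k) + 1) * p * q)) := by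
      have hr : ((i' : k) + 1) * al + ((j' : k) + 1) * be = (a : k) + 1 := by
        push_cast at hrel; exact hrel
      have e1 : κ - ((a : k) + 1) * p * q = ((a : k) + 1) * (al * q + be * p) -
          (((i' : k) + 1) * al * q + ((j' : k) + 1) * be * p) := by
        simp only [κ, hal, hbe] at *
        linear_combination hr
      have e1' := congrArg (C : k → k[X]) e1
      simp only [hA, hB, lf, κ, ← hal, ← hbe, map_add, map_mul, map_sub, map_one] at e1' ⊢
      linear_combination (X : k[X]) * e1'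
    refine mul_left_cancel₀ (show (X : k[X]) - 1 ≠ 0 by simpa using X_sub_C_ne_zero (1 : k)) ?_
    rw [← mul_assoc, ← hJ]
    rw [hDG] at hd
    simp only [derivative_add, derivative_mul, derivative_X_pow, derivative_pow, derivative_sub, derivative_X,
      derivative_one, Nat.add_sub_cancel, sub_zero, mul_one] at hd
    push_cast at hd
    simp only [map_add, map_natCast, map_one, map_ofNat, pow_succ, pow_zero, one_mul] at hd hH' ⊢
    linear_combination (X : k[X]) * hd - ((a : k[X]) + 1) * hH'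
  have hc := congrArg (fun P : k[X] => P.coeff (a + 1)) hkey
  obtain ⟨a', rfl⟩ : ∃ a', a = a' + 1 := ⟨a - 1, by omega⟩
  simp only [add_mul, mul_assoc, coeff_add, coeff_sub, coeff_C_mul, coeff_X_mul, coeff_derivative] at hc
  rw [hg, hF] at hc
  push_cast at hc
  simp only [mul_zero, zero_add, zero_mul, zero_sub, sub_zero] at hc
  have hg' : G.coeff (a' + 1 + 1) = 0 := by
    have h0 : ((a' : k) + 1 + 1) * (p * q) * G.coeff (a' + 1 + 1) = 0 := by linear_combination hc
    refine (mul_eq_zero.1 h0).resolve_left (mul_ne_zero ?_ (mul_ne_zero hp0 hq0))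
    exact_mod_cast Nat.succ_ne_zero (a' + 1)
  exact not_adjacent_zero' i' j' (a' + 1) (by omega) al p be q (sub_ne_zero.2 hp1.symm) hp0
    (sub_ne_zero.2 hq1.symm) hq0 ⟨hg, hg'⟩

include ha hb in
/-- With one point at `0`. -/
theorem le_of_origin {i j : ℕ} (hi : 0 < i) (hiab : i ≤ a + b) (hj : i + j = a + b + 2) (q : k)
    (h1 : 1 ≤ Module.finrank k ↥(sys k a b ⊓ (Ideal.span {(X : k[X]) ^ i * (X - C q) ^ j}).restrictScalars k))
    (h2 : 2 ≤ Module.finrank k ↥(sys k a b ⊓ (Ideal.span {(X : k[X]) ^ (i - 1) * (X - C q) ^ (j - 1)}).restrictScalars k)) :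
    a + 1 ≤ i := by
  by_contra hlt
  rw [not_le] at hlt
  have e0 : ∀ n : ℕ, ((X : k[X]) - C 0) ^ n = X ^ n := fun n => by simp
  have hg := coeff_G_eq_zero ha hb hi (by omega) hj 0 q (by rw [e0]; exact h2)
  obtain ⟨F, hF, hH, hrel⟩ := exists_of_pair ha hb hj 0 q (by rw [e0]; exact h1)
  have hq : q = 0 ∨ q = 1 := by
    have hA : lf (0 : k) = X := by simp [lf]
    rw [hA, coeff_X_pow_mul', if_pos (by omega)] at hg
    by_contra hcon
    push Not at hcon
    have hcomp : lf q ^ (j - 1) = C (q ^ (j - 1)) * ((1 + X) ^ (j - 1)).comp (C ((1 - q) / q) * X) := by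
      simp only [pow_comp, add_comp, one_comp, X_comp]
      rw [map_pow, ← mul_pow, mul_add, mul_one, ← mul_assoc, ← map_mul, mul_div_cancel₀ _ hcon.1, lf, add_comm]
    rw [hcomp, coeff_C_mul, comp_C_mul_X_coeff, coeff_one_add_X_pow, mul_eq_zero, mul_eq_zero,
      or_iff_right (pow_ne_zero _ hcon.1), or_iff_left (pow_ne_zero _ (div_ne_zero (sub_ne_zero.2 hcon.2.symm) hcon.1))] at hg
    exact (Nat.choose_pos (show a - (i - 1) ≤ j - 1 by omega)).ne' (by exact_mod_cast hg)
  have hcast : (i : k) + (j : k) = (a : k) + (b : k) + 2 := by exact_mod_cast congrArg (fun t : ℕ => (t : k)) hj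
  rcases hq with rfl | rfl
  · have h0 : ((b + 1 : ℕ) : k) = 0 := by push_cast; linear_combination hrel - hcast
    exact absurd (Nat.cast_eq_zero.1 h0) (Nat.succ_ne_zero b)
  · have h0 : (i : k) = ((a + 1 : ℕ) : k) := by push_cast; linear_combination hrel
    have := Nat.cast_injective h0
    omega

end Groth.Agent.Lib.Wronsk
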